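import Mathlib
import Cfsg.Prelude.Def_GeometricClasses
set_option linter.all false

/-!
Base facts for orthogonal groups given by a function `Q : (ι → F) → F` with
`Geo.IsNondegenerateQuadraticForm Q`, `2 ≠ 0` in `F`: the polar form as a Mathlib bilinear form,
isometries, `omegaGL Q` has determinant one, scalars in `omegaGL Q` for odd dimension.
-/

set_option autoImplicit false
set_option linter.unusedSectionVars false

namespace Cfsg.Agent.H922

open Cfsg Cfsg.Geo
open scoped MatrixGroups Matrix

variable {ι : Type} [Fintype ι] [DecidableEq ι] {F : Type*} [Field F]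

/-- A `Geo` bilinear form as a Mathlib bilinear form. -/
def toBilin {f : (ι → F) → (ι → F) → F} (h : IsBilinearForm f) :
    LinearMap.BilinForm F (ι → F) :=
  LinearMap.mk₂ F f (fun x y v => h.add_left x y v) (fun c x v => h.smul_left c x v)
    (fun v x y => h.add_right v x y) (fun c v x => h.smul_right c v x)

@[simp] theorem toBilin_apply {f : (ι → F) → (ι → F) → F} (h : IsBilinearForm f)
    (u v : ι → F) : toBilin h u v = f u v := rfl

theorem toBilin_nondegenerate {f : (ι → F) → (ι → F) → F} (h : IsBilinearForm f)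
    (hn : IsNondegenerateForm f) : (toBilin h).Nondegenerate := by
  constructor
  · intro x hx
    by_contra h0
    obtain ⟨y, hy⟩ := (hn x h0).2
    exact hy (hx y)
  · intro x hx
    by_contra h0
    obtain ⟨y, hy⟩ := (hn x h0).1
    exact hy (hx y)

theorem polar_symm (Q : (ι → F) → F) (u v : ι → F) :
    QuadraticMap.polar Q u v = QuadraticMap.polar Q v u := by
  simp only [QuadraticMap.polar, add_comm u v]; ring

theorem two_mul_Q {Q : (ι → F) → F} (hQ : ∀ (c : F) (v : ι → F), Q (c • v) = c ^ 2 * Q v)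
    (v : ι → F) : QuadraticMap.polar Q v v = 2 * Q v := by
  have h := hQ 2 v
  rw [two_smul] at h
  simp only [QuadraticMap.polar, h]; ring

theorem toBilin_isSymm (Q : (ι → F) → F) (h : IsBilinearForm (QuadraticMap.polar Q)) :
    (toBilin h).IsSymm :=
  ⟨fun x y => polar_symm Q x y⟩

theorem mem_isometryGroup {Q : (ι → F) → F} {g : GL ι F} :
    g ∈ isometryGroup F Q ↔ ∀ v, Q ((g : Matrix ι ι F) *ᵥ v) = Q v :=
  ⟨fun h v => h v v, fun h u _ => h u⟩

theorem polar_of_mem {Q : (ι → F) → F} {g : GL ι F} (hg : g ∈ isometryGroup F Q) (u v : ι → F) :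
    QuadraticMap.polar Q ((g : Matrix ι ι F) *ᵥ u) ((g : Matrix ι ι F) *ᵥ v) =
      QuadraticMap.polar Q u v := by
  rw [mem_isometryGroup] at hg
  simp only [QuadraticMap.polar, ← Matrix.mulVec_add, hg]

theorem mem_isometryGroup_of_polar {Q : (ι → F) → F}
    (hQ : ∀ (c : F) (v : ι → F), Q (c • v) = c ^ 2 * Q v) (h2 : (2 : F) ≠ 0) {g : GL ι F}
    (hg : ∀ u v, QuadraticMap.polar Q ((g : Matrix ι ι F) *ᵥ u) ((g : Matrix ι ι F) *ᵥ v) =
      QuadraticMap.polar Q u v) : g ∈ isometryGroup F Q := by
  rw [mem_isometryGroup]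
  intro v
  have h := hg v v
  rw [two_mul_Q hQ, two_mul_Q hQ] at h
  exact mul_left_cancel₀ h2 h

theorem omegaGL_le (Q : (ι → F) → F) : omegaGL Q ≤ isometryGroup F Q := by
  rintro _ ⟨x, _, rfl⟩
  exact x.2

theorem omegaGL_le_specialLinear (Q : (ι → F) → F) : omegaGL Q ≤ specialLinear ι F := by
  rw [omegaGL, Subgroup.map_le_iff_le_comap]
  unfold Omega
  rw [commutator_def, Subgroup.commutator_le]
  intro a _ b _
  rw [Subgroup.mem_comap]
  show Matrix.GeneralLinearGroup.det _ = 1
  rw [map_commutatorElement, map_commutatorElement]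
  exact commutatorElement_eq_one_iff_mul_comm.2 (mul_comm _ _)

theorem card_unit_sum (m : ℕ) : Fintype.card (Unit ⊕ (Fin m ⊕ Fin m)) = 2 * m + 1 := by
  simp [Fintype.card_sum]; omega

/-- In odd dimension the only scalar in `Ω` is `1`. -/
theorem scalars_inf_omegaGL (Q : (ι → F) → F) (hQ : IsNondegenerateQuadraticForm Q)
    (hn : Odd (Fintype.card ι)) {g : GL ι F} (hg : g ∈ omegaGL Q) (hs : g ∈ scalars ι F) :
    g = 1 := by
  rw [mem_scalars_iff] at hs
  obtain ⟨c, hc⟩ := hs
  have hI := omegaGL_le Q hg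
  have hdet := omegaGL_le_specialLinear Q hg
  have hne : Nonempty ι := by
    rw [← Fintype.card_pos_iff]; exact hn.pos
  obtain ⟨i⟩ := hne
  -- c ^ 2 = 1
  have hc2 : (c : F) ^ 2 = 1 := by
    have hv : (Pi.single i 1 : ι → F) ≠ 0 := by
      intro h; have := congrFun h i; simp at this
    obtain ⟨x, hx⟩ := (hQ.nondegenerate _ hv).1
    have h := polar_of_mem hI x (Pi.single i 1 : ι → F)
    rw [hc, Matrix.smul_mulVec, Matrix.smul_mulVec, Matrix.one_mulVec, Matrix.one_mulVec,
      hQ.polar_bilinear.smul_left, hQ.polar_bilinear.smul_right] at h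
    have h' : ((c : F) ^ 2 - 1) * QuadraticMap.polar Q x (Pi.single i 1 : ι → F) = 0 := by
      linear_combination h
    rcases mul_eq_zero.1 h' with h0 | h0
    · linear_combination h0
    · exact absurd h0 hx
  have hcn : (c : F) ^ (Fintype.card ι) = 1 := by
    have h1 : Matrix.det (g : Matrix ι ι F) = 1 := by
      have := congrArg (fun u : Fˣ => (u : F)) (MonoidHom.mem_ker.1 hdet)
      simpa using this
    rw [hc, Matrix.det_smul, Matrix.det_one, mul_one] at h1
    exact h1
  obtain ⟨k, hk⟩ := hn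
  rw [hk, pow_add, pow_mul, hc2, one_pow, one_mul, pow_one] at hcn
  apply Units.ext
  rw [hc, hcn, one_smul]; rfl

theorem two_ne_zero_of_odd_card [Fintype F] (hodd : Odd (Fintype.card F)) : (2 : F) ≠ 0 := by
  intro h
  have h1 : ringChar F = 2 ∨ ringChar F ≠ 2 := em _
  rcases h1 with h1 | h1
  · have := FiniteField.even_card_iff_char_two.1 h1
    rw [Nat.odd_iff] at hodd; omega
  · exact Ring.two_ne_zero h1 h

end Cfsg.Agent.H922
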