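import Mathlib
import Cfsg.Prelude.Def_GeometricClasses
import Cfsg.Agent.H922.OddBase
import Cfsg.Agent.H922.OddSubfield
import Cfsg.Agent.H922.OddDecomp
import Cfsg.Agent.H922.OddThree
import Cfsg.Agent.H919.AschWreath
set_option linter.all false

/-!
Tensor-wreath subgroups: normal form of the elements, pure tensors preserving a tensor power of a
form, and the case of three-dimensional factors over the field with three elements.
-/

set_option autoImplicit false
set_option linter.unusedSectionVars false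

namespace Cfsg.Agent.H922

open Cfsg Cfsg.Geo Module Cfsg.Agent.H919
open scoped MatrixGroups Matrix

section Normal

variable {F : Type*} [Field F] {t m : ℕ}

theorem facPerm_mul (σ τ : Equiv.Perm (Fin t)) :
    facPerm F m σ * facPerm F m τ = facPerm F m (σ * τ) := by
  apply Units.ext
  ext a b
  rw [Units.val_mul, Matrix.mul_apply, Finset.sum_eq_single (a ∘ σ)]
  · rw [facPerm_val, facPerm_val, facPerm_val, if_pos rfl, one_mul]
    rfl
  · intro c _ hc
    rw [facPerm_val, if_neg hc, zero_mul]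
  · intro h; exact absurd (Finset.mem_univ _) h

theorem facPerm_inv (σ : Equiv.Perm (Fin t)) : (facPerm F m σ)⁻¹ = facPerm F m σ⁻¹ := by
  rw [inv_eq_iff_mul_eq_one, facPerm_mul, mul_inv_cancel]
  apply Units.ext
  ext a b
  rw [facPerm_val, Units.val_one, Matrix.one_apply]
  by_cases h : b = a
  · subst h; rw [if_pos rfl, if_pos]; rfl
  · rw [if_neg (show ¬ b = a ∘ (1 : Equiv.Perm (Fin t)) from h), if_neg (fun h' => h h'.symm)]

theorem pureGL_mul (x y : Fin t → GL (Fin m) F) : pureGL x * pureGL y = pureGL (x * y) := by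
  apply Units.ext
  rw [Units.val_mul, pureGL_val, pureGL_val, pureGL_val, pureMat_mul]
  rfl

theorem pureGL_inv (x : Fin t → GL (Fin m) F) : (pureGL x)⁻¹ = pureGL x⁻¹ := by
  rw [inv_eq_iff_mul_eq_one, pureGL_mul, mul_inv_cancel]
  apply Units.ext
  rw [pureGL_val, Units.val_one]
  exact pureMat_one

theorem facPerm_mul_pureGL (σ : Equiv.Perm (Fin t)) (x : Fin t → GL (Fin m) F) :
    facPerm F m σ * pureGL x * (facPerm F m σ)⁻¹ = pureGL (fun i => x (σ.symm i)) := by
  apply Units.ext
  rw [Units.val_mul, Units.val_mul, pureGL_val, pureGL_val]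
  exact facPerm_conj σ _

/-- Normal form of the elements of the standard tensor-wreath subgroup. -/
theorem exists_normal_form {g : GL (Fin t → Fin m) F} (hg : g ∈ tensorWreathStandard m t F) :
    ∃ (σ : Equiv.Perm (Fin t)) (x : Fin t → GL (Fin m) F), g = pureGL x * facPerm F m σ := by
  let S : Subgroup (GL (Fin t → Fin m) F) :=
    { carrier := {g | ∃ (σ : Equiv.Perm (Fin t)) (x : Fin t → GL (Fin m) F),
        g = pureGL x * facPerm F m σ}
      mul_mem' := by
        rintro _ _ ⟨σ, x, rfl⟩ ⟨τ, y, rfl⟩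
        refine ⟨σ * τ, x * (fun i => y (σ.symm i)), ?_⟩
        rw [← pureGL_mul, ← facPerm_mul_pureGL, ← facPerm_mul]
        group
      one_mem' := by
        refine ⟨1, 1, ?_⟩
        have h1 : pureGL (1 : Fin t → GL (Fin m) F) = 1 := by
          have := pureGL_mul (1 : Fin t → GL (Fin m) F) 1
          rw [mul_one] at this
          exact mul_eq_left.1 this
        have h2 : facPerm F m (1 : Equiv.Perm (Fin t)) = 1 := by
          have := facPerm_mul (F := F) (m := m) (1 : Equiv.Perm (Fin t)) 1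
          rw [mul_one] at this
          exact mul_eq_left.1 this
        rw [h1, h2, mul_one]
      inv_mem' := by
        rintro _ ⟨σ, x, rfl⟩
        refine ⟨σ⁻¹, fun i => (x⁻¹) (σ i), ?_⟩
        rw [mul_inv_rev, pureGL_inv, facPerm_inv]
        have h := facPerm_mul_pureGL (F := F) (m := m) σ⁻¹ x⁻¹
        have h3 : (fun i => (x⁻¹) ((σ⁻¹).symm i)) = fun i => (x⁻¹) (σ i) := rfl
        rw [h3] at h
        rw [← h]
        group }
  have hle : tensorWreathStandard m t F ≤ S := by
    unfold tensorWreathStandard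
    rw [Subgroup.closure_le]
    rintro g (⟨gs, hgs⟩ | ⟨σ, hσ⟩)
    · refine ⟨1, gs, ?_⟩
      have h2 : facPerm F m (1 : Equiv.Perm (Fin t)) = 1 := by
        have := facPerm_mul (F := F) (m := m) (1 : Equiv.Perm (Fin t)) 1
        rw [mul_one] at this
        exact mul_eq_left.1 this
      rw [h2, mul_one]
      apply Units.ext
      ext a b
      rw [hgs a b, pureGL_val, pureMat_apply]
    · refine ⟨σ, 1, ?_⟩
      have h1 : pureGL (1 : Fin t → GL (Fin m) F) = 1 := by
        have := pureGL_mul (1 : Fin t → GL (Fin m) F) 1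
        rw [mul_one] at this
        exact mul_eq_left.1 this
      rw [h1, one_mul]
      apply Units.ext
      ext a b
      rw [hσ a b, facPerm_val]
  exact hle hg

/-- Equality of nonzero pure tensors forces proportional factors. -/
theorem pureMat_eq {A B : Fin t → Matrix (Fin m) (Fin m) F} (h : pureMat A = pureMat B)
    (hB : ∀ i, B i ≠ 0) : ∀ i, ∃ c : F, c ≠ 0 ∧ A i = c • B i := by
  classical
  have hex : ∀ i, ∃ p : Fin m × Fin m, B i p.1 p.2 ≠ 0 := by
    intro i
    by_contra hcon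
    push Not at hcon
    apply hB i
    ext a b
    exact hcon (a, b)
  choose p hp using hex
  intro i
  have key : ∀ a b, A i a b * ∏ j ∈ Finset.univ.erase i, A j (p j).1 (p j).2 =
      B i a b * ∏ j ∈ Finset.univ.erase i, B j (p j).1 (p j).2 := by
    intro a b
    have h1 := congrFun (congrFun h (Function.update (fun j => (p j).1) i a))
      (Function.update (fun j => (p j).2) i b)
    rw [pureMat_apply, pureMat_apply, ← Finset.mul_prod_erase _ _ (Finset.mem_univ i),
      ← Finset.mul_prod_erase _ _ (Finset.mem_univ i)] at h1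
    simp only [Function.update_self] at h1
    have h2 : ∀ C : Fin t → Matrix (Fin m) (Fin m) F,
        ∏ j ∈ Finset.univ.erase i, C j (Function.update (fun j => (p j).1) i a j)
          (Function.update (fun j => (p j).2) i b j) =
        ∏ j ∈ Finset.univ.erase i, C j (p j).1 (p j).2 := by
      intro C
      refine Finset.prod_congr rfl fun j hj => ?_
      rw [Function.update_of_ne (Finset.ne_of_mem_erase hj),
        Function.update_of_ne (Finset.ne_of_mem_erase hj)]
    rw [h2, h2] at h1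
    exact h1
  have hb0 : ∏ j ∈ Finset.univ.erase i, B j (p j).1 (p j).2 ≠ 0 :=
    Finset.prod_ne_zero_iff.2 fun j _ => hp j
  have hk := key (p i).1 (p i).2
  have ha0 : ∏ j ∈ Finset.univ.erase i, A j (p j).1 (p j).2 ≠ 0 := by
    intro h0
    rw [h0, mul_zero] at hk
    exact mul_ne_zero (hp i) hb0 hk.symm
  refine ⟨(∏ j ∈ Finset.univ.erase i, B j (p j).1 (p j).2) /
    ∏ j ∈ Finset.univ.erase i, A j (p j).1 (p j).2, div_ne_zero hb0 ha0, ?_⟩
  ext a b
  rw [Matrix.smul_apply, smul_eq_mul, div_mul_eq_mul_div, eq_div_iff ha0, key, mul_comm]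

theorem pureMat_transpose (A : Fin t → Matrix (Fin m) (Fin m) F) :
    (pureMat A)ᵀ = pureMat (fun i => (A i)ᵀ) := rfl

/-- The pure tensor vector. -/
def pureVec (w : Fin t → (Fin m → F)) : (Fin t → Fin m) → F := fun a => ∏ i, w i (a i)

theorem pureMat_mulVec (A : Fin t → Matrix (Fin m) (Fin m) F) (w : Fin t → (Fin m → F)) :
    pureMat A *ᵥ pureVec w = pureVec (fun i => A i *ᵥ w i) := by
  funext a
  simp only [Matrix.mulVec, dotProduct, pureMat_apply, pureVec]
  rw [Finset.prod_univ_sum, Fintype.piFinset_univ]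
  refine Finset.sum_congr rfl fun b _ => ?_
  rw [Finset.prod_mul_distrib]

theorem pureVec_smul (c : Fin t → F) (w : Fin t → (Fin m → F)) :
    pureVec (fun i => c i • w i) = (∏ i, c i) • pureVec w := by
  funext a
  simp only [pureVec, Pi.smul_apply, smul_eq_mul, Finset.prod_mul_distrib]

theorem facPerm_mulVec (σ : Equiv.Perm (Fin t)) (w : Fin t → (Fin m → F)) :
    (facPerm F m σ : Matrix (Fin t → Fin m) (Fin t → Fin m) F) *ᵥ pureVec w =
      pureVec (fun i => w (σ⁻¹ i)) := by
  funext a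
  simp only [Matrix.mulVec, dotProduct]
  rw [Finset.sum_eq_single (a ∘ σ)]
  · rw [facPerm_val, if_pos rfl, one_mul, pureVec, pureVec]
    rw [← Equiv.prod_comp σ (fun i => w (σ⁻¹ i) (a i))]
    refine Finset.prod_congr rfl fun i _ => ?_
    simp
  · intro c _ hc
    rw [facPerm_val, if_neg hc, zero_mul]
  · intro h; exact absurd (Finset.mem_univ _) h

theorem dot_pureVec (w z : Fin t → (Fin m → F)) :
    pureVec w ⬝ᵥ pureVec z = ∏ i, (w i ⬝ᵥ z i) := by
  simp only [dotProduct, pureVec]
  rw [Finset.prod_univ_sum, Fintype.piFinset_univ]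
  refine Finset.sum_congr rfl fun b _ => ?_
  rw [Finset.prod_mul_distrib]

/-- The transpose of a factor permutation. -/
theorem facPerm_transpose (σ : Equiv.Perm (Fin t)) :
    (facPerm F m σ : Matrix (Fin t → Fin m) (Fin t → Fin m) F)ᵀ =
      (((facPerm F m σ)⁻¹ : GL (Fin t → Fin m) F) : Matrix (Fin t → Fin m) (Fin t → Fin m) F) := by
  rw [facPerm_inv]
  ext a b
  rw [Matrix.transpose_apply, facPerm_val, facPerm_val]
  by_cases h : a = b ∘ σ
  · rw [if_pos h, if_pos]
    rw [h]; funext i; simp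
  · rw [if_neg h, if_neg]
    intro h'
    apply h
    rw [h']; funext i; simp

/-- A pure tensor times a factor permutation preserving the tensor power of the Gram matrix `G`
has all its factors similarities of `G`. -/
theorem similarity_of_pure {G : Matrix (Fin m) (Fin m) F} (hG : G ≠ 0)
    (x : Fin t → GL (Fin m) F) (σ : Equiv.Perm (Fin t))
    (h : ((pureGL x * facPerm F m σ : GL (Fin t → Fin m) F) :
        Matrix (Fin t → Fin m) (Fin t → Fin m) F)ᵀ * pureMat (fun _ => G) *
        ((pureGL x * facPerm F m σ : GL (Fin t → Fin m) F) :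
        Matrix (Fin t → Fin m) (Fin t → Fin m) F) = pureMat (fun _ => G)) (i : Fin t) :
    ∃ c : F, c ≠ 0 ∧ (x i : Matrix (Fin m) (Fin m) F)ᵀ * G * (x i : Matrix (Fin m) (Fin m) F) =
      c • G := by
  have h1 : pureMat (fun i => (x i : Matrix (Fin m) (Fin m) F)ᵀ * G *
      (x i : Matrix (Fin m) (Fin m) F)) = pureMat (fun _ => G) := by
    have h2 : (facPerm F m σ : Matrix (Fin t → Fin m) (Fin t → Fin m) F) *
        pureMat (fun _ : Fin t => G) * (((facPerm F m σ)⁻¹ : GL (Fin t → Fin m) F) :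
          Matrix (Fin t → Fin m) (Fin t → Fin m) F) =
        pureMat (fun _ => G) := facPerm_conj σ _
    rw [Units.val_mul, Matrix.transpose_mul, facPerm_transpose, pureGL_val,
      pureMat_transpose] at h
    have h3 : pureMat (fun i => (x i : Matrix (Fin m) (Fin m) F)ᵀ) * pureMat (fun _ : Fin t => G) *
        pureMat (fun i => (x i : Matrix (Fin m) (Fin m) F)) = pureMat (fun _ => G) := by
      set X := pureMat (fun i => (x i : Matrix (Fin m) (Fin m) F)ᵀ)
      set Y := pureMat (fun i => (x i : Matrix (Fin m) (Fin m) F))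
      set S := (facPerm F m σ : Matrix (Fin t → Fin m) (Fin t → Fin m) F)
      set S' := (((facPerm F m σ)⁻¹ : GL (Fin t → Fin m) F) :
          Matrix (Fin t → Fin m) (Fin t → Fin m) F)
      have hSS : S * S' = 1 := Units.mul_inv _
      calc X * pureMat (fun _ : Fin t => G) * Y
          = (S * S') * X * pureMat (fun _ : Fin t => G) * Y * (S * S') := by
            rw [hSS, one_mul, mul_one]
        _ = S * (S' * X * pureMat (fun _ : Fin t => G) * (Y * S)) * S' := by
            simp only [mul_assoc]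
        _ = pureMat (fun _ => G) := by rw [h, h2]
    rw [pureMat_mul, pureMat_mul] at h3
    exact h3
  exact pureMat_eq h1 (fun _ => hG) i

end Normal

section FrameThree

variable {ι : Type} [Fintype ι] [DecidableEq ι] {F : Type*} [Field F] {t m : ℕ}

theorem frameGL_mulVec (e : ι ≃ (Fin t → Fin m)) (P : GL ι F) (g : GL (Fin t → Fin m) F)
    (x : (Fin t → Fin m) → F) :
    ((frameGL e P g : GL ι F) : Matrix ι ι F) *ᵥ ((P : Matrix ι ι F) *ᵥ (x ∘ e)) =
      (P : Matrix ι ι F) *ᵥ (((g : Matrix (Fin t → Fin m) (Fin t → Fin m) F) *ᵥ x) ∘ e) := by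
  rw [frameGL_val, frameMat, ← Matrix.mulVec_mulVec, ← Matrix.mulVec_mulVec,
    Matrix.mulVec_mulVec _ _ ((P : Matrix ι ι F)), ← Units.val_mul, inv_mul_cancel,
    Units.val_one, Matrix.one_mulVec]
  congr 1
  rw [Matrix.coe_reindexAlgEquiv, Matrix.reindex_apply, Matrix.submatrix_mulVec_equiv]
  congr 2
  funext a
  simp

theorem tensorPower_eq {σ : F → F} {f : (ι → F) → (ι → F) → F} {f₁ : (Fin m → F) → (Fin m → F) → F}
    {e : ι ≃ (Fin t → Fin m)} {P : GL ι F} {c : F}
    (h : ∀ x y : (Fin t → Fin m) → F,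
      f ((P : Matrix ι ι F) *ᵥ (x ∘ e)) ((P : Matrix ι ι F) *ᵥ (y ∘ e)) =
      c * ∑ a, ∑ b, x a * (∏ i, gramMatrix f₁ (a i) (b i)) * σ (y b)) (hσ : σ = id)
    (x y : (Fin t → Fin m) → F) :
    f ((P : Matrix ι ι F) *ᵥ (x ∘ e)) ((P : Matrix ι ι F) *ᵥ (y ∘ e)) =
      c * (x ⬝ᵥ (pureMat (fun _ => gramMatrix f₁) *ᵥ y)) := by
  rw [h, hσ]
  congr 1
  simp only [dotProduct, Matrix.mulVec, Finset.mul_sum, pureMat_apply, id, mul_assoc]

/-- Three-dimensional symmetric forms over the field with three elements: a similarity maps each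
vector of an orthogonal basis of constant norm to a multiple of such a vector. -/
theorem similarity_three [Fintype F] (h3 : Fintype.card F = 3)
    {f₁ : (Fin 3 → F) → (Fin 3 → F) → F} (hf₁ : IsSymmetricForm f₁) {d : F} (hd : d ≠ 0)
    {w : Basis (Fin 3) F (Fin 3 → F)} (hw : ∀ i j, f₁ (w i) (w j) = if i = j then d else 0)
    {x : GL (Fin 3) F} {c : F} (hc : c ≠ 0)
    (hx : (x : Matrix (Fin 3) (Fin 3) F)ᵀ * gramMatrix f₁ * (x : Matrix (Fin 3) (Fin 3) F) =
      c • gramMatrix f₁) (a : Fin 3) :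
    ∃ (b : Fin 3) (s : F), s ≠ 0 ∧ (x : Matrix (Fin 3) (Fin 3) F) *ᵥ w a = s • w b := by
  have hsq : ∀ y : F, y ≠ 0 → y ^ 2 = 1 := by
    intro y hy
    have := FiniteField.pow_card_sub_one_eq_one y hy
    rwa [h3] at this
  have hG0 : (gramMatrix f₁).det ≠ 0 := gramMatrix_det_ne_zero hf₁.bilinear hf₁.nondegenerate
  have hxdet : (x : Matrix (Fin 3) (Fin 3) F).det ≠ 0 :=
    ((Matrix.isUnit_iff_isUnit_det _).1 x.isUnit).ne_zero
  have hc1 : c = 1 := by
    have h1 := congrArg Matrix.det hx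
    rw [Matrix.det_smul, Matrix.det_mul, Matrix.det_mul, Matrix.det_transpose,
      Fintype.card_fin] at h1
    have h2 : (x : Matrix (Fin 3) (Fin 3) F).det ^ 2 = c ^ 3 := by
      apply mul_right_cancel₀ hG0
      linear_combination h1
    rw [hsq _ hxdet] at h2
    have h4 := hsq c hc
    linear_combination -h2 - c * h4
  rw [hc1, one_smul] at hx
  have hiso : ∀ u v, f₁ ((x : Matrix (Fin 3) (Fin 3) F) *ᵥ u) ((x : Matrix (Fin 3) (Fin 3) F) *ᵥ v) =
      f₁ u v := by
    intro u v
    have h5 := eq_gram (isBilinearForm_comp hf₁.bilinear (x : Matrix (Fin 3) (Fin 3) F)) u v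
    rw [gramMatrix_comp hf₁.bilinear, hx, ← eq_gram hf₁.bilinear] at h5
    exact h5
  set y := (x : Matrix (Fin 3) (Fin 3) F) *ᵥ w a with hy
  have hyy : f₁ y y = d := by rw [hy, hiso, hw, if_pos rfl]
  have hsum : y = ∑ b, w.repr y b • w b := (w.sum_repr y).symm
  have hpol : f₁ y y = d * ∑ b, (w.repr y b) ^ 2 := by
    rw [← toBilin_apply hf₁.bilinear]
    nth_rewrite 1 [hsum]
    rw [map_sum, LinearMap.sum_apply, Finset.mul_sum]
    refine Finset.sum_congr rfl fun b _ => ?_
    rw [map_smul, LinearMap.smul_apply]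
    nth_rewrite 2 [hsum]
    rw [map_sum, Finset.sum_eq_single b]
    · rw [map_smul, toBilin_apply, hw, if_pos rfl, smul_eq_mul, smul_eq_mul]; ring
    · intro b' _ hb'
      rw [map_smul, toBilin_apply, hw, if_neg (Ne.symm hb'), smul_zero]
    · intro h; exact absurd (Finset.mem_univ b) h
  rw [hyy] at hpol
  have hone : ∑ b, (w.repr y b) ^ 2 = 1 := by
    have : d * (∑ b, (w.repr y b) ^ 2 - 1) = 0 := by linear_combination -hpol
    rcases mul_eq_zero.1 this with h | h
    · exact absurd h hd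
    · linear_combination h
  obtain ⟨b, hb, hb1⟩ := sum_sq_three h3 _ hone
  refine ⟨b, w.repr y b, ?_, ?_⟩
  · intro h; rw [h] at hb1; simp at hb1
  · nth_rewrite 1 [hsum]
    rw [Finset.sum_eq_single b]
    · intro b' _ hb'; rw [hb b' hb', zero_smul]
    · intro h; exact absurd (Finset.mem_univ b) h

/-- `(E8b)` Over the field with three elements the isometries in a tensor-wreath subgroup with
three-dimensional factors, for a tensor power of a symmetric form, stabilise a frame. -/
theorem tensorWreath_three_le_frame [Fintype F] (h3 : Fintype.card F = 3) {Q : (ι → F) → F}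
    (hQ : IsNondegenerateQuadraticForm Q) (ht : 0 < t) {f₁ : (Fin 3 → F) → (Fin 3 → F) → F}
    (hf₁ : IsSymmetricForm f₁) {e : ι ≃ (Fin t → Fin 3)} {P : GL ι F}
    (hP : IsTensorPowerFormStructure id (QuadraticMap.polar Q) f₁ e P) :
    ∃ D' : Fin (Fintype.card ι) → Submodule F (ι → F), IsOrthogonalMDecomposition Q 1 D' ∧
      tensorWreathSubgroup 3 t e P ⊓ isometryGroup F Q ≤ decompositionStabilizer D' := by
  classical
  have h2 : (2 : F) ≠ 0 := by
    apply two_ne_zero_of_odd_card
    rw [h3]; decide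
  obtain ⟨c, hc, hcf⟩ := hP
  have hcf' := tensorPower_eq hcf rfl
  obtain ⟨d, w, hd, hw⟩ := exists_basis_const h2 (toBilin hf₁.bilinear)
    ⟨fun x y => hf₁.symm x y⟩ (toBilin_nondegenerate hf₁.bilinear hf₁.nondegenerate) (n := 3)
    (by decide) (by rw [finrank_fintype_fun_eq_card, Fintype.card_fin])
  simp only [toBilin_apply] at hw
  set G := gramMatrix f₁ with hG
  let W : (Fin t → Fin 3) → ((Fin t → Fin 3) → F) := fun a => pureVec (fun i => w (a i))
  have hcard : Fintype.card ι = 3 ^ t := by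
    rw [Fintype.card_congr e, Fintype.card_fun, Fintype.card_fin, Fintype.card_fin]
  obtain ⟨ε⟩ : Nonempty (Fin (Fintype.card ι) ≃ (Fin t → Fin 3)) :=
    Fintype.card_eq.1 (by rw [Fintype.card_fin, Fintype.card_congr e])
  let v : Fin (Fintype.card ι) → (ι → F) := fun k => (P : Matrix ι ι F) *ᵥ (W (ε k) ∘ e)
  have hvv : ∀ k l, QuadraticMap.polar Q (v k) (v l) = if k = l then c * d ^ t else 0 := by
    intro k l
    show QuadraticMap.polar Q ((P : Matrix ι ι F) *ᵥ (W (ε k) ∘ e))
      ((P : Matrix ι ι F) *ᵥ (W (ε l) ∘ e)) = _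
    rw [hcf', pureMat_mulVec, dot_pureVec]
    have h5 : ∀ i, (w (ε k i) ⬝ᵥ (G *ᵥ w (ε l i))) = if ε k i = ε l i then d else 0 := by
      intro i
      rw [hG, ← eq_gram hf₁.bilinear, hw]
    simp only [h5]
    by_cases hkl : k = l
    · subst hkl
      rw [if_pos rfl]
      simp
    · rw [if_neg hkl]
      have hne : ε k ≠ ε l := fun h => hkl (ε.injective h)
      obtain ⟨i, hi⟩ := Function.ne_iff.1 hne
      rw [Finset.prod_eq_zero (Finset.mem_univ i) (by rw [if_neg hi]), mul_zero]
  have hcd : c * d ^ t ≠ 0 := mul_ne_zero hc (pow_ne_zero _ hd)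
  have hQv : ∀ k, Q (v k) = c * d ^ t / 2 := by
    intro k
    have h1 := hvv k k
    rw [if_pos rfl, two_mul_Q hQ.smul] at h1
    rw [eq_div_iff h2, mul_comm]
    exact h1
  have hdec : IsOrthogonalMDecomposition Q 1 (fun k => Submodule.span F {v k}) := by
    refine isOrthogonalMDecomposition_of_vectors hQ h2 rfl ?_ v
      (c := c * d ^ t / 2) (div_ne_zero hcd h2) hQv ?_
    · rw [hcard]
      calc 2 ≤ 3 ^ 1 := by norm_num
        _ ≤ 3 ^ t := Nat.pow_le_pow_right (by norm_num) ht
    · intro k l hkl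
      rw [hvv, if_neg hkl]
  refine ⟨_, hdec, ?_⟩
  rintro g ⟨hgT, hgI⟩
  obtain ⟨g', hg', rfl⟩ := (mem_tensorWreathSubgroup_iff e P g).1 hgT
  obtain ⟨σ, x, rfl⟩ := exists_normal_form hg'
  -- the form is preserved
  have hpres : ((pureGL x * facPerm F 3 σ : GL (Fin t → Fin 3) F) :
        Matrix (Fin t → Fin 3) (Fin t → Fin 3) F)ᵀ * pureMat (fun _ => G) *
        ((pureGL x * facPerm F 3 σ : GL (Fin t → Fin 3) F) :
        Matrix (Fin t → Fin 3) (Fin t → Fin 3) F) = pureMat (fun _ => G) := by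
    set M := ((pureGL x * facPerm F 3 σ : GL (Fin t → Fin 3) F) :
        Matrix (Fin t → Fin 3) (Fin t → Fin 3) F) with hM
    have h6 : ∀ u z : (Fin t → Fin 3) → F, u ⬝ᵥ ((Mᵀ * pureMat (fun _ => G) * M) *ᵥ z) =
        u ⬝ᵥ (pureMat (fun _ => G) *ᵥ z) := by
      intro u z
      have h7 := polar_of_mem hgI ((P : Matrix ι ι F) *ᵥ (u ∘ e)) ((P : Matrix ι ι F) *ᵥ (z ∘ e))
      rw [frameGL_mulVec, frameGL_mulVec, ← hM, hcf', hcf'] at h7
      have h8 := mul_left_cancel₀ hc h7
      rw [← Matrix.mulVec_mulVec, ← Matrix.mulVec_mulVec, Matrix.dotProduct_mulVec,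
        ← Matrix.mulVec_transpose, Matrix.transpose_transpose]
      exact h8
    ext a b
    have h9 := h6 (Pi.single a 1) (Pi.single b 1)
    rw [Matrix.mulVec_single_one, Matrix.mulVec_single_one, single_one_dotProduct,
      single_one_dotProduct] at h9
    exact h9
  have hG0 : G ≠ 0 := by
    intro h0
    have := gramMatrix_det_ne_zero hf₁.bilinear hf₁.nondegenerate
    rw [← hG, h0, Matrix.det_zero] at this
    exact this rfl
  have hsim : ∀ i a, ∃ (b : Fin 3) (s : F), s ≠ 0 ∧
      (x i : Matrix (Fin 3) (Fin 3) F) *ᵥ w a = s • w b := by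
    intro i a
    obtain ⟨ci, hci, hxi⟩ := similarity_of_pure hG0 x σ hpres i
    exact similarity_three h3 hf₁ hd hw hci hxi a
  choose π s hs hπ using hsim
  apply mem_decompositionStabilizer_of_forall hdec.decomp.decomp
  intro k
  refine ⟨ε.symm (fun i => π i (ε k (σ⁻¹ i))), ?_⟩
  rw [Submodule.map_span, Set.image_singleton, Matrix.toLin'_apply]
  have h10 : ((frameGL e P (pureGL x * facPerm F 3 σ) : GL ι F) : Matrix ι ι F) *ᵥ v k =
      (∏ i, s i (ε k (σ⁻¹ i))) • v (ε.symm (fun i => π i (ε k (σ⁻¹ i)))) := by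
    show ((frameGL e P (pureGL x * facPerm F 3 σ) : GL ι F) : Matrix ι ι F) *ᵥ
      ((P : Matrix ι ι F) *ᵥ (W (ε k) ∘ e)) = _
    rw [frameGL_mulVec, Units.val_mul, ← Matrix.mulVec_mulVec, facPerm_mulVec, pureGL_val,
      pureMat_mulVec]
    have h11 : (fun i => (x i : Matrix (Fin 3) (Fin 3) F) *ᵥ w (ε k (σ⁻¹ i))) =
        fun i => s i (ε k (σ⁻¹ i)) • w (π i (ε k (σ⁻¹ i))) := by
      funext i
      exact hπ i _
    rw [h11, pureVec_smul]
    show _ = (∏ i, s i (ε k (σ⁻¹ i))) • ((P : Matrix ι ι F) *ᵥ (W (ε _) ∘ e))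
    rw [Equiv.apply_symm_apply, ← Matrix.mulVec_smul]
    rfl
  rw [h10]
  exact Submodule.span_singleton_smul_eq
    (IsUnit.mk0 _ (Finset.prod_ne_zero_iff.2 fun i _ => hs _ _)) _

end FrameThree

end Cfsg.Agent.H922
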