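import Mathlib
import Cfsg.Prelude.Def_GeometricClasses
import Cfsg.Agent.H922.OddBase
import Cfsg.Agent.H922.OddSubfield
import Cfsg.Agent.H922.OddDecomp
set_option linter.all false

/-!
Orthogonal complements: stabilisers of a non-degenerate subspace and of its complement, the even
member of the pair in odd dimension, plus-type planes over the field with three elements.
-/

set_option autoImplicit false
set_option linter.unusedSectionVars false

namespace Cfsg.Agent.H922

open Cfsg Cfsg.Geo Module
open scoped MatrixGroups Matrix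

variable {ι : Type} [Fintype ι] [DecidableEq ι] {F : Type*} [Field F]

/-- The orthogonal complement with respect to a bilinear form. -/
def perp {f : (ι → F) → (ι → F) → F} (h : IsBilinearForm f) (W : Submodule F (ι → F)) :
    Submodule F (ι → F) := (toBilin h).orthogonal W

theorem mem_perp {f : (ι → F) → (ι → F) → F} (h : IsBilinearForm f) {W : Submodule F (ι → F)}
    {x : ι → F} : x ∈ perp h W ↔ ∀ w ∈ W, f w x = 0 := Iff.rfl

theorem isRefl_of_symm {f : (ι → F) → (ι → F) → F} (h : IsBilinearForm f)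
    (hs : ∀ u v, f u v = f v u) : (toBilin h).IsRefl := by
  intro x y hxy
  rw [toBilin_apply] at hxy ⊢
  rw [hs, hxy]

theorem finrank_perp {f : (ι → F) → (ι → F) → F} (h : IsBilinearForm f)
    (hn : IsNondegenerateForm f) (W : Submodule F (ι → F)) :
    finrank F W + finrank F (perp h W) = Fintype.card ι := by
  have h1 := LinearMap.BilinForm.finrank_orthogonal (toBilin_nondegenerate h hn) W
  have h2 := Submodule.finrank_le W
  rw [finrank_fintype_fun_eq_card] at h1 h2
  unfold perp
  omega

theorem perp_perp {f : (ι → F) → (ι → F) → F} (h : IsBilinearForm f)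
    (hs : ∀ u v, f u v = f v u) (hn : IsNondegenerateForm f) (W : Submodule F (ι → F)) :
    perp h (perp h W) = W :=
  LinearMap.BilinForm.orthogonal_orthogonal (toBilin_nondegenerate h hn) (isRefl_of_symm h hs) W

theorem mem_subspaceStabilizer {W : Submodule F (ι → F)} {g : GL ι F} :
    g ∈ subspaceStabilizer W ↔ ∀ v, v ∈ W ↔ (g : Matrix ι ι F) *ᵥ v ∈ W := Iff.rfl

/-- It suffices that `g` maps `W` into itself. -/
theorem mem_subspaceStabilizer_of_forall {W : Submodule F (ι → F)} {g : GL ι F}
    (h : ∀ v ∈ W, (g : Matrix ι ι F) *ᵥ v ∈ W) : g ∈ subspaceStabilizer W := by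
  rw [mem_subspaceStabilizer]
  have hmap : W.map (glLin g : (ι → F) →ₗ[F] (ι → F)) ≤ W := by
    rintro _ ⟨v, hv, rfl⟩
    exact h v hv
  have heq : W.map (glLin g : (ι → F) →ₗ[F] (ι → F)) = W := by
    apply Submodule.eq_of_le_of_finrank_eq hmap
    exact LinearEquiv.finrank_map_eq (glLin g) W
  intro v
  refine ⟨h v, fun hv => ?_⟩
  rw [← heq] at hv
  obtain ⟨w, hw, hwv⟩ := hv
  have : w = v := (glLin g).injective (by rw [glLin_apply g v]; exact hwv)
  rwa [← this]

theorem subspaceStabilizer_perp_le {Q : (ι → F) → F} (hQ : IsNondegenerateQuadraticForm Q)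
    (W : Submodule F (ι → F)) : subspaceStabilizer W ⊓ isometryGroup F Q ≤
      subspaceStabilizer (perp hQ.polar_bilinear W) ⊓ isometryGroup F Q := by
  rintro g ⟨hgW, hgI⟩
  refine ⟨mem_subspaceStabilizer_of_forall fun v hv => ?_, hgI⟩
  rw [mem_perp] at hv ⊢
  intro w hw
  -- w = g w' with w' ∈ W
  have hw' : ((g⁻¹ : GL ι F) : Matrix ι ι F) *ᵥ w ∈ W := by
    rw [mem_subspaceStabilizer.1 hgW, Matrix.mulVec_mulVec, ← Units.val_mul, mul_inv_cancel,
      Units.val_one, Matrix.one_mulVec]
    exact hw
  have h1 := polar_of_mem hgI (((g⁻¹ : GL ι F) : Matrix ι ι F) *ᵥ w) v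
  rw [Matrix.mulVec_mulVec, ← Units.val_mul, mul_inv_cancel, Units.val_one,
    Matrix.one_mulVec] at h1
  rw [h1]
  exact hv _ hw'

theorem subspaceStabilizer_perp {Q : (ι → F) → F} (hQ : IsNondegenerateQuadraticForm Q)
    (W : Submodule F (ι → F)) : subspaceStabilizer W ⊓ isometryGroup F Q =
      subspaceStabilizer (perp hQ.polar_bilinear W) ⊓ isometryGroup F Q := by
  apply le_antisymm (subspaceStabilizer_perp_le hQ W)
  have h := subspaceStabilizer_perp_le hQ (perp hQ.polar_bilinear W)
  rwa [perp_perp hQ.polar_bilinear (polar_symm Q) hQ.nondegenerate] at h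

theorem subspaceStabilizer_perp_omega {Q : (ι → F) → F} (hQ : IsNondegenerateQuadraticForm Q)
    (W : Submodule F (ι → F)) : subspaceStabilizer W ⊓ omegaGL Q =
      subspaceStabilizer (perp hQ.polar_bilinear W) ⊓ omegaGL Q := by
  have h := subspaceStabilizer_perp hQ W
  have h1 : ∀ U : Submodule F (ι → F), subspaceStabilizer U ⊓ omegaGL Q =
      (subspaceStabilizer U ⊓ isometryGroup F Q) ⊓ omegaGL Q := by
    intro U
    rw [inf_assoc, inf_eq_right.2 (omegaGL_le Q)]
  rw [h1, h1 (perp _ _), h]

/-- The complement of a non-degenerate subspace is non-degenerate. -/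
theorem perp_nondegenerate {Q : (ι → F) → F} (hQ : IsNondegenerateQuadraticForm Q)
    {W : Submodule F (ι → F)} (hW : IsNondegenerateOn (QuadraticMap.polar Q) W) :
    IsNondegenerateOn (QuadraticMap.polar Q) (perp hQ.polar_bilinear W) := by
  have hbf := hQ.polar_bilinear
  -- W ⊓ W^⊥ = 0
  have hdisj : W ⊓ perp hbf W = ⊥ := by
    rw [eq_bot_iff]
    rintro x ⟨hx, hx'⟩
    rw [Submodule.mem_bot]
    by_contra h0
    obtain ⟨⟨y, hy, hy'⟩, _⟩ := hW x hx h0
    exact hy' (hx' y hy)
  intro w hw hw0
  suffices h : ∃ x ∈ perp hbf W, QuadraticMap.polar Q x w ≠ 0 by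
    obtain ⟨x, hx, hxw⟩ := h
    exact ⟨⟨x, hx, hxw⟩, ⟨x, hx, by rwa [polar_symm]⟩⟩
  by_contra hcon
  push Not at hcon
  have h1 : w ∈ perp hbf (perp hbf W) := hcon
  rw [perp_perp hbf (polar_symm Q) hQ.nondegenerate] at h1
  have h2 : w ∈ W ⊓ perp hbf W := ⟨h1, hw⟩
  rw [hdisj, Submodule.mem_bot] at h2
  exact hw0 h2

/-- `(E1)` In odd dimension the stabiliser of a proper nonzero non-degenerate subspace is the
stabiliser of a nonzero even-dimensional non-degenerate subspace. -/
theorem exists_even_subspace {Q : (ι → F) → F} (hQ : IsNondegenerateQuadraticForm Q)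
    (hn : Odd (Fintype.card ι)) {W : Submodule F (ι → F)} (hW0 : W ≠ ⊥) (hW1 : W ≠ ⊤)
    (hW : IsNondegenerateOn (QuadraticMap.polar Q) W) :
    ∃ W' : Submodule F (ι → F), W' ≠ ⊥ ∧ W' ≠ ⊤ ∧ Even (finrank F W') ∧
      IsNondegenerateOn (QuadraticMap.polar Q) W' ∧
      subspaceStabilizer W' ⊓ isometryGroup F Q = subspaceStabilizer W ⊓ isometryGroup F Q := by
  have hfr := finrank_perp hQ.polar_bilinear hQ.nondegenerate W
  rcases Nat.even_or_odd (finrank F W) with he | ho
  · exact ⟨W, hW0, hW1, he, hW, rfl⟩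
  · refine ⟨perp hQ.polar_bilinear W, ?_, ?_, ?_, perp_nondegenerate hQ hW,
      (subspaceStabilizer_perp hQ W).symm⟩
    · intro h
      rw [h, finrank_bot, add_zero] at hfr
      apply hW1
      apply Submodule.eq_top_of_finrank_eq
      rw [hfr, finrank_fintype_fun_eq_card]
    · intro h
      rw [h, finrank_top, finrank_fintype_fun_eq_card] at hfr
      apply hW0
      rw [← Submodule.finrank_eq_zero]
      omega
    · rw [← hfr] at hn
      rcases Nat.even_or_odd (finrank F (perp hQ.polar_bilinear W)) with h | h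
      · exact h
      · exfalso
        exact (Nat.not_even_iff_odd.2 hn) (ho.add_odd h)

/-- A plus-type plane over the field with three elements contains a vector `x` with `Q x = 1`,
unique up to sign. -/
theorem exists_plane_vector [Fintype F] (h3 : Fintype.card F = 3) {Q : (ι → F) → F}
    (hQ : IsNondegenerateQuadraticForm Q) {W : Submodule F (ι → F)}
    (hW : IsNondegenerateOn (QuadraticMap.polar Q) W) (hdim : finrank F W = 2)
    (hplus : IsPlusTypeOn Q W) :
    ∃ x ∈ W, Q x = 1 ∧ ∀ v ∈ W, Q v = 1 → v = x ∨ v = -x := by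
  have hbf := hQ.polar_bilinear
  obtain ⟨U, hUW, hUs, hU2⟩ := hplus
  rw [hdim] at hU2
  have hU1 : finrank F U = 1 := by omega
  obtain ⟨⟨u, huU⟩, hu0, -⟩ := (finrank_eq_one_iff' (V := U)).1 hU1
  have hu0' : u ≠ 0 := fun h => hu0 (Subtype.ext h)
  have hQu : Q u = 0 := hUs u huU
  obtain ⟨-, y, hyW, hy⟩ := hW u (hUW huU) hu0'
  set b := QuadraticMap.polar Q u y with hb
  have hQadd : ∀ x z, Q (x + z) = Q x + Q z + QuadraticMap.polar Q x z := by
    intro x z; simp only [QuadraticMap.polar]; ring
  -- y' = b⁻¹ (y - (Q y / b) u)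
  set y' : ι → F := b⁻¹ • (y + (-(Q y / b)) • u) with hy'
  have hy'W : y' ∈ W := W.smul_mem _ (W.add_mem hyW (W.smul_mem _ (hUW huU)))
  have hQy' : Q y' = 0 := by
    rw [hy', hQ.smul, hQadd, hQ.smul, hQu, hbf.smul_right, polar_symm Q y u, ← hb]
    field_simp
    ring
  have huy' : QuadraticMap.polar Q u y' = 1 := by
    rw [hy', hbf.smul_right, hbf.add_right, hbf.smul_right, two_mul_Q hQ.smul, hQu, ← hb]
    field_simp
    ring
  have hsq : ∀ x : F, x ≠ 0 → x ^ 2 = 1 := by
    intro x hx
    have := FiniteField.pow_card_sub_one_eq_one x hx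
    rwa [h3] at this
  have hQab : ∀ α β : F, Q (α • u + β • y') = α * β := by
    intro α β
    rw [hQadd, hQ.smul, hQ.smul, hQu, hQy', hbf.smul_left, hbf.smul_right, huy']
    ring
  -- span
  have hspan : ∀ v ∈ W, ∃ α β : F, v = α • u + β • y' := by
    have hli : LinearIndependent F ![u, y'] := by
      rw [LinearIndependent.pair_iff]
      intro s t hst
      have h1 := congrArg (QuadraticMap.polar Q u) hst
      have hz : QuadraticMap.polar Q u 0 = 0 := by
        have := hbf.smul_right 0 u 0
        rwa [zero_smul, zero_mul] at this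
      rw [hbf.add_right, hbf.smul_right, hbf.smul_right, huy', two_mul_Q hQ.smul, hQu, hz] at h1
      have ht : t = 0 := by linear_combination h1
      rw [ht, zero_smul, add_zero] at hst
      exact ⟨(smul_eq_zero.1 hst).resolve_right hu0', ht⟩
    have hle : Submodule.span F (Set.range ![u, y']) ≤ W := by
      rw [Submodule.span_le]
      rintro _ ⟨i, rfl⟩
      fin_cases i
      · exact hUW huU
      · exact hy'W
    have heq : Submodule.span F (Set.range ![u, y']) = W := by
      apply Submodule.eq_of_le_of_finrank_eq hle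
      rw [finrank_span_eq_card hli, hdim, Fintype.card_fin]
    intro v hv
    rw [← heq, Matrix.range_cons, Matrix.range_cons, Matrix.range_empty, Set.union_empty,
      Set.singleton_union, Submodule.mem_span_pair] at hv
    obtain ⟨α, β, h⟩ := hv
    exact ⟨α, β, h.symm⟩
  refine ⟨u + y', W.add_mem (hUW huU) hy'W, ?_, ?_⟩
  · have := hQab 1 1
    rwa [one_smul, one_smul, one_mul] at this
  · intro v hv hv1
    obtain ⟨α, β, rfl⟩ := hspan v hv
    rw [hQab] at hv1
    have hα : α ≠ 0 := by rintro rfl; simp at hv1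
    have hα2 := hsq α hα
    have hβ : β = α := by
      have : β = α ^ 2 * β := by rw [hα2, one_mul]
      rw [this, pow_two, mul_assoc, hv1, mul_one]
    rw [hβ]
    have h4 : (α - 1) * (α + 1) = 0 := by linear_combination hα2
    rcases mul_eq_zero.1 h4 with h | h
    · left
      rw [sub_eq_zero.1 h, one_smul, one_smul]
    · right
      rw [eq_neg_of_add_eq_zero_left h, neg_smul, neg_smul, one_smul, one_smul, neg_add]

/-- Over the field with three elements the stabiliser of a plus-type plane is contained in the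
stabiliser of a non-degenerate hyperplane. -/
theorem plus_plane_le [Fintype F] (h3 : Fintype.card F = 3) {Q : (ι → F) → F}
    (hQ : IsNondegenerateQuadraticForm Q) {W : Submodule F (ι → F)}
    (hW : IsNondegenerateOn (QuadraticMap.polar Q) W) (hdim : finrank F W = 2)
    (hplus : IsPlusTypeOn Q W) :
    ∃ W' : Submodule F (ι → F), finrank F W' + 1 = Fintype.card ι ∧
      IsNondegenerateOn (QuadraticMap.polar Q) W' ∧
      subspaceStabilizer W ⊓ isometryGroup F Q ≤ subspaceStabilizer W' ⊓ isometryGroup F Q := by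
  have h2 : (2 : F) ≠ 0 := by
    apply two_ne_zero_of_odd_card
    rw [h3]; decide
  have hbf := hQ.polar_bilinear
  obtain ⟨x, hxW, hx1, hx⟩ := exists_plane_vector h3 hQ hW hdim hplus
  have hx0 : x ≠ 0 := by
    rintro rfl
    have := hQ.smul 0 (0 : ι → F)
    rw [zero_smul, hx1] at this
    simp at this
  have hxx : QuadraticMap.polar Q x x ≠ 0 := by
    rw [two_mul_Q hQ.smul, hx1, mul_one]; exact h2
  set U := Submodule.span F {x} with hU
  have hUn : IsNondegenerateOn (QuadraticMap.polar Q) U := by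
    intro w hw hw0
    obtain ⟨a, rfl⟩ := Submodule.mem_span_singleton.1 hw
    have ha : a ≠ 0 := by rintro rfl; simp at hw0
    refine ⟨⟨x, Submodule.mem_span_singleton_self _, ?_⟩,
      ⟨x, Submodule.mem_span_singleton_self _, ?_⟩⟩
    · rw [hbf.smul_right]; exact mul_ne_zero ha hxx
    · rw [hbf.smul_left]; exact mul_ne_zero ha hxx
  refine ⟨perp hbf U, ?_, perp_nondegenerate hQ hUn, ?_⟩
  · have := finrank_perp hbf hQ.nondegenerate U
    rw [hU, finrank_span_singleton hx0] at this
    rw [hU]; omega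
  · rw [← subspaceStabilizer_perp hQ U]
    rintro g ⟨hgW, hgI⟩
    refine ⟨mem_subspaceStabilizer_of_forall fun v hv => ?_, hgI⟩
    obtain ⟨a, rfl⟩ := Submodule.mem_span_singleton.1 hv
    rw [Matrix.mulVec_smul]
    apply U.smul_mem
    have h5 := hx _ ((mem_subspaceStabilizer.1 hgW x).1 hxW)
      (by rw [mem_isometryGroup.1 hgI, hx1])
    rcases h5 with h5 | h5
    · rw [h5]; exact Submodule.mem_span_singleton_self _
    · rw [h5]; exact U.neg_mem (Submodule.mem_span_singleton_self _)

end Cfsg.Agent.H922
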