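import Cfsg.Agent.H922.OmBlock
import Cfsg.Agent.H141.SpinLev
import Cfsg.Agent.ClassicalGeometry.Discriminant
import Cfsg.Agent.H906.Cover_m3
import Cfsg.Agent.H922.OddBase
import Cfsg.Agent.LieClassical.OrthForms
import Cfsg.Agent.S0292
import Cfsg.Agent.FastGrp
import Cfsg.Agent.Prune
set_option linter.all false

section
prune_inst 0x7fbfecffbbfefbdfdfff7e7fa79ecffdffbfbfffe6fffdcbffe0e9ffabdfff9acfe5fb8f0fea71fe1fd7e23418f87b13f9ffde7fe26bf87ffffd1ff41ffbff8fedf7b50851d68c340fbc2fff03f0778e7f3fffffffffffffffffffffffffffbeffbfffffffff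

-- part: H922/OmStab
section
set_option linter.all false
open scoped Cfsg.Agent.FastGrp

/-!
Elements of `E Q` which are the identity on the orthogonal complement of a nondegenerate subspace `U` of
dimension at least five belong to `EY Q U` (odd characteristic).
-/

set_option autoImplicit false

namespace Cfsg.Agent.H922.Om

open QuadraticMap Cfsg.Agent.LieClassical.OrthCore Cfsg.Agent.LieClassical.OrthTrans
  Cfsg.Agent.LieClassical.OrthFinite Cfsg.Agent.LieClassical.OrthSimple Cfsg.Agent.H883.Bridge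
  Cfsg.Agent.H883.Root Cfsg.Agent.H883.Sub Module

open Cfsg.Agent.H160.QSpin (pr pr_apply pr_mem_O spin spin_pr_left spin_cj IsIso det_cj det_pr)

variable {F V : Type*} [Field F] [AddCommGroup V] [Module F V] {Q : QuadraticForm F V}

/-- The restriction of an element of `stab U`. -/
def resEquiv {U : Submodule F V} {g : V ≃ₗ[F] V} (hg : g ∈ stab U) : U ≃ₗ[F] U where
  toFun u := ⟨g u, (hg u).1 u.2⟩
  invFun u := ⟨g.symm u, (hg _).2 (by rw [LinearEquiv.apply_symm_apply]; exact u.2)⟩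
  left_inv u := Subtype.ext (g.symm_apply_apply _)
  right_inv u := Subtype.ext (g.apply_symm_apply _)
  map_add' a b := Subtype.ext (map_add g _ _)
  map_smul' c a := Subtype.ext (map_smul g _ _)

theorem mem_EY_of_fix [Finite F] [FiniteDimensional F V] (h2 : (2 : F) ≠ 0) (hG : Good Q)
    {U : Submodule F V} (hU : NondegOn Q U) (hR : Good (res Q U)) {g : V ≃ₗ[F] V} (hg : g ∈ E Q)
    (hfix : ∀ v ∈ perp Q U, g v = v) : g ∈ EY Q U := by
  have hfV : Finite V := Module.finite_of_finite F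
  have hgO := E_le_O hg
  have hgU : g ∈ stab U := by
    refine mem_stab_of_le fun u hu => ?_
    have h1 : g u ∈ perp Q (perp Q U) := by
      rw [mem_perp]
      intro z hz
      rw [← hfix z hz, polar_map hgO, polar_comm]
      exact mem_perp.1 hz u hu
    rwa [perp_perp hG.nondeg] at h1
  let e : (U × perp Q U) ≃ₗ[F] V := Submodule.prodEquivOfIsCompl U (perp Q U) hU.isCompl
  have he : ∀ (u : U) (z : perp Q U), e (u, z) = (u : V) + (z : V) := fun u z => rfl
  have hiso : IsIso ((res Q U).prod (res Q (perp Q U))) Q e := by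
    rintro ⟨u, z⟩
    rw [he, Q_add, mem_perp.1 z.2 u u.2, add_zero]
    rfl
  have hgU' : resEquiv hgU ∈ O (res Q U) := by
    intro u
    show Q (g (u : V)) = Q (u : V)
    exact hgO _
  have hcj : Cfsg.Agent.H160.QSpin.cj e (pr (resEquiv hgU) 1) = g := by
    ext v
    obtain ⟨⟨u, z⟩, rfl⟩ := e.surjective v
    rw [Cfsg.Agent.H160.QSpin.cj_apply', pr_apply, he, he, map_add, hfix z z.2]
    rfl
  have hgc : g ∈ ⁅O Q, O Q⁆ := by
    rw [hG.commutator_eq_E]
    exact hg
  have hdet : LinearEquiv.det (resEquiv hgU) = 1 := by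
    have h1 := Cfsg.Agent.H141.SpinFacts.det_eq_one hgc
    rw [← hcj, det_cj, det_pr, map_one, mul_one] at h1
    exact h1
  have hfU : Finite (U × perp Q U) := inferInstance
  have hspin : spin (res Q U) ⟨resEquiv hgU, hgU'⟩ = 1 := by
    have h1 := Cfsg.Agent.H141.SpinFacts.hom_eq_one (spin Q) hgc hgO
    have h3 := spin_cj hiso (pr_mem_O hgU' (O (res Q (perp Q U))).one_mem)
    have h4 : (⟨Cfsg.Agent.H160.QSpin.cj e (pr (resEquiv hgU) 1),
        Cfsg.Agent.H160.QSpin.cj_mem_O hiso (pr_mem_O hgU' (O (res Q (perp Q U))).one_mem)⟩ : O Q) =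
        ⟨g, hgO⟩ := Subtype.ext hcj
    rw [h4, h1] at h3
    rw [← spin_pr_left (Q₂ := res Q (perp Q U)) h2 hU.res hgU', ← h3]
  have hmem := Cfsg.Agent.H141.SpinFacts.mem_Om_of_odd h2 hR hgU' hdet hspin
  have hmem' : resEquiv hgU ∈ E (res Q U) := by
    rw [← hR.commutator_eq_E]
    exact hmem
  obtain ⟨g', hg', e'⟩ := exists_lift hmem'
  have : g = g' := by
    refine eq_of_agree hU (fun y hy => ?_) fun v hv => ?_
    · rw [e' ⟨y, hy⟩]
      rfl
    · rw [hfix v hv, EY_fix hg' (mem_perp.1 hv)]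
  rw [this]
  exact hg'

end Cfsg.Agent.H922.Om
end

-- part: H922/OmKill
section
prune_inst 0x4000000000000000000000004000000000000000000000000000001020000000000020000000000000000000000040000000000000040000004000000000001000000000000000000000000000000000000000000000000000000000000000000000000000
set_option linter.all false
open scoped Cfsg.Agent.FastGrp

-- part: H922/OmSix
section
/-!
The fixed space of the sign involutions of a frame with `n ≥ 6` vectors is fixed by `EY Q (span)`.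
-/

set_option autoImplicit false

namespace Cfsg.Agent.H922.Om

open QuadraticMap Cfsg.Agent.LieClassical.OrthCore Cfsg.Agent.LieClassical.OrthTrans
  Cfsg.Agent.LieClassical.OrthFinite Cfsg.Agent.LieClassical.OrthSimple Cfsg.Agent.H883.Bridge
  Cfsg.Agent.H883.Root Cfsg.Agent.H883.Sub Module

open Equiv (swap swap_apply_left swap_apply_right swap_apply_of_ne_of_ne)

variable {F V : Type*} [Field F] [AddCommGroup V] [Module F V] {Q : QuadraticForm F V}

namespace Frame

variable {n : ℕ} {w : Fin n → V} {ν : F}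

/-- The span of the frame. -/
abbrev sp (w : Fin n → V) : Submodule F V := Submodule.span F (Set.range w)

theorem sp_comp_le {k : ℕ} (f : Fin k → Fin n) : sp (F := F) (fun i => w (f i)) ≤ sp (F := F) w := by
  rw [Submodule.span_le]
  rintro _ ⟨i, rfl⟩
  exact mem_span w (f i)

/-- The frame in its span. -/
theorem toRes (h : Frame Q w ν) :
    Frame (res Q (sp (F := F) w)) (fun i => (⟨w i, mem_span w i⟩ : sp (F := F) w)) ν where
  ne := h.ne
  norm i := h.norm i
  orth i j hij := h.orth i j hij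

theorem s_toRes (hG : Good Q) (h : Frame Q w ν) (hR : Good (res Q (sp (F := F) w))) (i j : Fin n)
    (y : sp (F := F) w) :
    (h.s hG i j : V ≃ₗ[F] V) (y : V) = ((h.toRes.s hR i j : sp (F := F) w ≃ₗ[F] sp (F := F) w) y : V) := by
  show refl Q (w i) (h.Q_ne i) (refl Q (w j) (h.Q_ne j) (y : V)) =
    ((_root_.Cfsg.Agent.LieClassical.OrthCore.refl (res Q (sp (F := F) w)) ⟨w i, mem_span w i⟩ (h.toRes.Q_ne i)
      (_root_.Cfsg.Agent.LieClassical.OrthCore.refl (res Q (sp (F := F) w)) ⟨w j, mem_span w j⟩ (h.toRes.Q_ne j) y) : sp (F := F) w) : V)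
  rw [refl_apply (h.Q_ne i), refl_apply (h.Q_ne j), refl_apply (h.toRes.Q_ne i),
    refl_apply (h.toRes.Q_ne j)]
  rfl

theorem s_perp (hG : Good Q) (h : Frame Q w ν) (i j : Fin n) {v : V}
    (hv : v ∈ perp Q (sp (F := F) w)) : (h.s hG i j : V ≃ₗ[F] V) v = v :=
  h.s_apply_of_orth hG (mem_perp.1 hv _ (mem_span w i)) (mem_perp.1 hv _ (mem_span w j))

theorem s_mem_EY [FiniteDimensional F V] (hG : Good Q) (h2 : (2 : F) ≠ 0) (h : Frame Q w ν)
    (hR : Good (res Q (sp (F := F) w))) (i j : Fin n) :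
    (h.s hG i j : V ≃ₗ[F] V) ∈ EY Q (sp (F := F) w) := by
  obtain ⟨g, hg, e⟩ := exists_lift (h.toRes.s hR i j).2
  have : (h.s hG i j : V ≃ₗ[F] V) = g := by
    refine eq_of_agree (h.nondegOn h2) (fun y hy => ?_) fun v hv => ?_
    · rw [e ⟨y, hy⟩, ← h.s_toRes hG hR i j ⟨y, hy⟩]
    · rw [h.s_perp hG i j hv, EY_fix hg (mem_perp.1 hv)]
  rw [this]
  exact hg

theorem s_toRes_not_scalar (h2 : (2 : F) ≠ 0) (h : Frame Q w ν) (hR : Good (res Q (sp (F := F) w)))
    {i j k : Fin n} (hij : i ≠ j) (hki : k ≠ i) (hkj : k ≠ j) :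
    ¬ ∃ c : F, ∀ y : sp (F := F) w, (h.toRes.s hR i j : sp (F := F) w ≃ₗ[F] sp (F := F) w) y = c • y := by
  rintro ⟨c, hc⟩
  have h1 := hc ⟨w i, mem_span w i⟩
  have h3 := hc ⟨w k, mem_span w k⟩
  rw [h.toRes.s_apply hR hij i, if_pos (Or.inl rfl)] at h1
  rw [h.toRes.s_apply hR hij k, if_neg (by (clear * - n i j k hki hkj; tauto))] at h3
  have h0 : ∀ l, (⟨w l, mem_span w l⟩ : sp (F := F) w) ≠ 0 := by
    intro l hl
    have h4 := h.toRes.Q_ne l
    rw [hl, QuadraticMap.map_zero] at h4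
    exact h4 rfl
  have hc1 : (c + 1) • (⟨w i, mem_span w i⟩ : sp (F := F) w) = 0 := by
    rw [add_smul, ← h1, one_smul, neg_add_cancel]
  have hc2 : (c - 1) • (⟨w k, mem_span w k⟩ : sp (F := F) w) = 0 := by
    rw [sub_smul, ← h3, one_smul, sub_self]
  have hc1' := (smul_eq_zero.1 hc1).resolve_right (h0 i)
  have hc2' := (smul_eq_zero.1 hc2).resolve_right (h0 k)
  apply h2
  linear_combination hc1' - hc2'

/-- The product of the six reflections of a frame of six vectors. -/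
noncomputable def zz (hG : Good Q) {w : Fin 6 → V} (h : Frame Q w ν) : E Q :=
  h.s hG 0 1 * (h.s hG 2 3 * h.s hG 4 5)

theorem zz_apply (hG : Good Q) {w : Fin 6 → V} (h : Frame Q w ν) {y : V}
    (hy : y ∈ sp (F := F) w) : (h.zz hG : V ≃ₗ[F] V) y = - y := by
  have e : ∀ v, (h.zz hG : V ≃ₗ[F] V) v = (h.s hG 0 1 : V ≃ₗ[F] V) ((h.s hG 2 3 : V ≃ₗ[F] V)
      ((h.s hG 4 5 : V ≃ₗ[F] V) v)) := fun v => rfl
  induction hy using Submodule.span_induction with
  | mem x hx =>
    obtain ⟨i, rfl⟩ := hx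
    rw [e, h.s_apply hG (by decide) i]
    (revert i; simp only [h.s_apply hG (show (2 : Fin 6) ≠ 3 by decide), h.s_apply hG (show (0 : Fin 6) ≠ 1 by decide), _root_.Fin.forall_fin_succ, Fin.isValue, Fin.reduceEq, _root_.or_self, ↓reduceIte, _root_.zero_ne_one, _root_.or_false, _root_.Fin.succ_zero_eq_one, _root_.one_ne_zero, _root_.or_true, _root_.Fin.succ_one_eq_two, _root_.map_neg, Fin.reduceSucc, _root_.IsEmpty.forall_iff, _root_.and_self])
  | zero => rw [map_zero, neg_zero]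
  | add x y _ _ hx hy => rw [map_add, hx, hy, neg_add]
  | smul a x _ hx => rw [map_smul, hx, smul_neg]

theorem zz_perp (hG : Good Q) {w : Fin 6 → V} (h : Frame Q w ν) {v : V}
    (hv : v ∈ perp Q (sp (F := F) w)) : (h.zz hG : V ≃ₗ[F] V) v = v := by
  show (h.s hG 0 1 : V ≃ₗ[F] V) ((h.s hG 2 3 : V ≃ₗ[F] V) ((h.s hG 4 5 : V ≃ₗ[F] V) v)) = v
  rw [h.s_perp hG _ _ hv, h.s_perp hG _ _ hv, h.s_perp hG _ _ hv]

theorem zz_comm [FiniteDimensional F V] (hG : Good Q) (h2 : (2 : F) ≠ 0) {w : Fin 6 → V}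
    (h : Frame Q w ν) {g : V ≃ₗ[F] V} (hg : g ∈ EY Q (sp (F := F) w)) :
    (h.zz hG : V ≃ₗ[F] V) * g = g * (h.zz hG : V ≃ₗ[F] V) := by
  refine eq_of_agree (h.nondegOn h2) (fun y hy => ?_) fun v hv => ?_
  · show (h.zz hG : V ≃ₗ[F] V) (g y) = g ((h.zz hG : V ≃ₗ[F] V) y)
    have hgy : g y ∈ sp (F := F) w := (EY_stab hg y).1 hy
    rw [h.zz_apply hG hy, h.zz_apply hG hgy, map_neg]
  · show (h.zz hG : V ≃ₗ[F] V) (g v) = g ((h.zz hG : V ≃ₗ[F] V) v)
    rw [EY_fix hg (mem_perp.1 hv), h.zz_perp hG hv, EY_fix hg (mem_perp.1 hv)]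

section Rep

variable {K M : Type*} [Field K] [AddCommGroup M] [Module K M] {ρ : E Q →* Module.End K M}

theorem zz_M0 (hG : Good Q) {w : Fin 6 → V} (h : Frame Q w ν) {v : M}
    (hv : v ∈ M0 ρ (h.s hG)) : ρ (h.zz hG) v = v := by
  rw [mem_M0] at hv
  rw [zz, rho_mul, rho_mul, hv, hv, hv]

theorem zz_L (hG : Good Q) {w : Fin 6 → V} (h : Frame Q w ν) {a : Fin 6} {v : M}
    (hv : v ∈ L ρ (h.s hG) a) : ρ (h.zz hG) v = - v := by
  rw [mem_L] at hv
  rw [zz, rho_mul, rho_mul]
  fin_cases a <;> simp only [hv, _root_.Fin.isValue, _root_.Fin.zero_eta, _root_.Fin.reduceEq, ↓ _root_.reduceIte, _root_.zero_ne_one, _root_.iff_false, _root_.not_true_eq_false, _root_.Fin.mk_one, _root_.one_ne_zero, _root_.iff_true, _root_.Fin.reduceFinMk, _root_.map_neg]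

theorem zz_fixed_iff (hG : Good Q) (hK : (2 : K) ≠ 0) {w : Fin 6 → V} (h : Frame Q w ν)
    (hD : Dec ρ (h.s hG)) {v : M} : ρ (h.zz hG) v = v ↔ v ∈ M0 ρ (h.s hG) := by
  constructor
  · intro hv
    rw [mem_M0]
    intro i j
    have h1 : (LinearMap.ker ((ρ (h.s hG i j) - 1) * (1 + ρ (h.zz hG)))) = ⊤ := by
      refine hD.induction ?_ fun a => ?_
      · intro x hx
        rw [LinearMap.mem_ker, Module.End.mul_apply, LinearMap.add_apply, Module.End.one_apply,
          h.zz_M0 hG hx, LinearMap.sub_apply, Module.End.one_apply, map_add, mem_M0.1 hx i j, sub_self]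
      · intro x hx
        rw [LinearMap.mem_ker, Module.End.mul_apply, LinearMap.add_apply, Module.End.one_apply,
          h.zz_L hG hx, add_neg_cancel, map_zero]
    have h3 : v ∈ LinearMap.ker ((ρ (h.s hG i j) - 1) * (1 + ρ (h.zz hG))) := by
      rw [h1]
      trivial
    rw [LinearMap.mem_ker, Module.End.mul_apply, LinearMap.add_apply, Module.End.one_apply, hv,
      LinearMap.sub_apply, Module.End.one_apply, map_add] at h3
    have h4 : (2 : K) • (ρ (h.s hG i j) v - v) = 0 := by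
      rw [← h3]
      module
    exact sub_eq_zero.1 ((smul_eq_zero.1 h4).resolve_left hK)
  · exact h.zz_M0 hG

/-- **Six vectors**: the fixed space of the sign involutions is fixed by `EY Q (span)`. -/
theorem M0_le_FixS_six [FiniteDimensional F V] (hG : Good Q) (h2 : (2 : F) ≠ 0) (hK : (2 : K) ≠ 0)
    {w : Fin 6 → V} (h : Frame Q w ν) (hR : Good (res Q (sp (F := F) w)))
    (hD : Dec ρ (h.s hG)) : M0 ρ (h.s hG) ≤ FixS ρ (sp (F := F) w) := by
  refine le_FixS_of_trivial (h.nondegOn h2) hR ?_ (t := h.s hG 0 1)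
    (h.toRes.s hR 0 1).2 (fun y => h.s_toRes hG hR 0 1 y) (fun v hv => h.s_perp hG 0 1 hv)
    (h.s_toRes_not_scalar h2 hR (k := 2) (by decide) (by decide) (by decide)) ?_
  · intro g hg x hx
    rw [← h.zz_fixed_iff hG hK hD] at hx ⊢
    have e : h.zz hG * (⟨g, EY_le_E hg⟩ : E Q) = ⟨g, EY_le_E hg⟩ * h.zz hG :=
      Subtype.ext (h.zz_comm hG h2 hg)
    rw [← rho_mul, e, rho_mul, hx]
  · intro x hx
    exact mem_M0.1 hx 0 1

/-- The converse inclusion. -/
theorem FixS_le_M0 [FiniteDimensional F V] (hG : Good Q) (h2 : (2 : F) ≠ 0) (h : Frame Q w ν)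
    (hR : Good (res Q (sp (F := F) w))) : FixS ρ (sp (F := F) w) ≤ M0 ρ (h.s hG) := by
  intro x hx
  rw [mem_M0]
  intro i j
  exact hx _ (h.s_mem_EY hG h2 hR i j)

/-- The map `Fin 6 → Fin n`, `i ↦ i` for `i < 5`, `5 ↦ k`. -/
def emb6 (k : Fin n) (hk : 5 ≤ (k : ℕ)) : Fin 6 ↪ Fin n where
  toFun i := if hi : (i : ℕ) < 5 then ⟨i, by omega⟩ else k
  inj' := by
    intro i j hij
    apply Fin.ext
    by_cases hi : (i : ℕ) < 5 <;> by_cases hj : (j : ℕ) < 5
    · simp only [dif_pos hi, dif_pos hj] at hij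
      exact (Fin.mk.injEq _ _ _ _).mp hij
    · simp only [dif_pos hi, dif_neg hj] at hij
      rw [← hij] at hk
      simp only at hk
      omega
    · simp only [dif_neg hi, dif_pos hj] at hij
      rw [hij] at hk
      simp only at hk
      omega
    · omega

theorem emb6_lt (k : Fin n) (hk : 5 ≤ (k : ℕ)) {i : Fin 6} (hi : (i : ℕ) < 5) :
    emb6 k hk i = ⟨i, by omega⟩ := dif_pos hi

theorem emb6_last (k : Fin n) (hk : 5 ≤ (k : ℕ)) : emb6 k hk 5 = k := by
  show (if hi : ((5 : Fin 6) : ℕ) < 5 then (⟨((5 : Fin 6) : ℕ), by omega⟩ : Fin n) else k) = k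
  rw [dif_neg (by decide)]

/-- **Generation**: `EY Q (span)` of a frame with at least six vectors is generated by the subgroups of the
subframes of six vectors. -/
theorem EY_sp_le_of_six [Finite F] [FiniteDimensional F V] (h2 : (2 : F) ≠ 0)
    (h : Frame Q w ν) (hn : 6 ≤ n) {H : Subgroup (V ≃ₗ[F] V)}
    (hH : ∀ f : Fin 6 ↪ Fin n, EY Q (sp (F := F) fun i => w (f i)) ≤ H) :
    EY Q (sp (F := F) w) ≤ H := by
  have hgood : ∀ {k : ℕ} (f : Fin k ↪ Fin n), 5 ≤ k → Good (res Q (sp (F := F) fun i => w (f i))) := by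
    intro k f hk
    refine good_res ((h.comp f).nondegOn h2) ?_
    rw [(h.comp f).finrank_span h2]
    exact hk
  have hR : Good (res Q (sp (F := F) w)) := by
    refine good_res (h.nondegOn h2) ?_
    rw [h.finrank_span h2]
    omega
  -- the common hyperbolic pair
  let f5 : Fin 5 ↪ Fin n := Fin.castLEEmb (by omega)
  obtain ⟨x, x', hyp⟩ := (hgood f5 le_rfl).exists_hyp
  have hyp' : Hyp Q (x : V) (x' : V) := ⟨hyp.left, hyp.right, hyp.pair⟩
  have hsub : ∀ k : {k : Fin n // 5 ≤ (k : ℕ)},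
      sp (F := F) (fun i => w (f5 i)) ≤ sp (F := F) (fun i => w (emb6 k.1 k.2 i)) := by
    intro k
    rw [Submodule.span_le]
    rintro _ ⟨i, rfl⟩
    refine Submodule.subset_span ⟨⟨i, by omega⟩, ?_⟩
    show w (emb6 k.1 k.2 ⟨i, _⟩) = w (f5 i)
    rw [emb6_lt k.1 k.2 (i := ⟨i, by omega⟩) (by simp)]
    rfl
  refine EY_le_of_blocks (h.nondegOn h2) hR hyp' (sp_comp_le f5 x.2) (sp_comp_le f5 x'.2)
    (fun k : {k : Fin n // 5 ≤ (k : ℕ)} => sp (F := F) (fun i => w (emb6 k.1 k.2 i)))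
    (fun k => hsub k x.2) (fun k => hsub k x'.2) ?_ fun k => hH _
  rw [Submodule.span_le]
  rintro _ ⟨i, rfl⟩
  by_cases hi : (i : ℕ) < 5
  · refine Submodule.mem_iSup_of_mem ⟨⟨5, by omega⟩, by simp⟩ ?_
    refine Submodule.subset_span ⟨⟨i, by omega⟩, ?_⟩
    show w (emb6 _ _ ⟨i, _⟩) = w i
    rw [emb6_lt _ _ (i := ⟨i, by omega⟩) hi]
  · refine Submodule.mem_iSup_of_mem ⟨i, by omega⟩ ?_
    refine Submodule.subset_span ⟨5, ?_⟩
    show w (emb6 i _ 5) = w i
    rw [emb6_last]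

/-- **At least six vectors**: the fixed space of the sign involutions is fixed by `EY Q (span)`. -/
theorem M0_le_FixS [Finite F] [FiniteDimensional F V] (hG : Good Q) (h2 : (2 : F) ≠ 0)
    (hK : (2 : K) ≠ 0) (h : Frame Q w ν) (hn : 6 ≤ n)
    (hD : ∀ f : Fin 6 ↪ Fin n, Dec ρ ((h.comp f).s hG)) :
    M0 ρ (h.s hG) ≤ FixS ρ (sp (F := F) w) := by
  intro m hm
  rw [mem_FixS_iff]
  refine h.EY_sp_le_of_six h2 hn fun f => ?_
  rw [← mem_FixS_iff]
  refine (h.comp f).M0_le_FixS_six hG h2 hK ?_ (hD f) ((M0_le_comp f hm :))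
  refine good_res ((h.comp f).nondegOn h2) ?_
  rw [(h.comp f).finrank_span h2]
  norm_num

end Rep

end Frame

end Cfsg.Agent.H922.Om
end

-- part: H922/OmExist
section
/-!
Existence of orthogonal frames over finite fields of odd characteristic.
-/

set_option autoImplicit false

namespace Cfsg.Agent.H922.Om

open QuadraticMap Cfsg.Agent.LieClassical.OrthCore Cfsg.Agent.LieClassical.OrthTrans
  Cfsg.Agent.LieClassical.OrthFinite Cfsg.Agent.LieClassical.OrthSimple Cfsg.Agent.H883.Bridge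
  Cfsg.Agent.H883.Root Cfsg.Agent.H883.Sub Module

variable {F V : Type*} [Field F] [AddCommGroup V] [Module F V] {Q : QuadraticForm F V}

theorem polarBilin_isSymm : LinearMap.BilinForm.IsSymm (polarBilin Q) :=
  ⟨fun x y => polar_comm Q x y⟩

/-- An orthogonal basis with prescribed norms. -/
theorem exists_basis_norm [Finite F] [FiniteDimensional F V] (h2 : (2 : F) ≠ 0) (hQ : Nondeg Q)
    {ι κ : Type*} [Fintype ι] [DecidableEq ι] [Fintype κ] [DecidableEq κ] (b : Basis κ F V)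
    (c : ι → F) (hcard : Fintype.card ι = finrank F V) (hc : ∀ i, c i ≠ 0) (s : F)
    (hdet : (LinearMap.BilinForm.toMatrix b (polarBilin Q)).det = s ^ 2 * ∏ i, (2 * c i)) :
    ∃ v : Basis ι F V, (∀ i, Q (v i) = c i) ∧ ∀ i j, i ≠ j → polar Q (v i) (v j) = 0 := by
  obtain ⟨v, hv⟩ := Cfsg.Agent.ClassicalGeometry.Discriminant.exists_basis_diag h2
    (polarBilin Q : LinearMap.BilinForm F V) polarBilin_isSymm (nondegenerate_of_nondeg hQ) b
    (fun i => 2 * c i) hcard (fun i => mul_ne_zero h2 (hc i)) s hdet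
  refine ⟨v, fun i => ?_, fun i j hij => ?_⟩
  · have h := hv i i
    rw [if_pos rfl, polarBilin_apply_apply, polar_self'] at h
    exact mul_left_cancel₀ h2 h
  · have h := hv i j
    rwa [if_neg hij, polarBilin_apply_apply] at h

/-- Two orthogonal frames, of sizes `k` and `l`, `l` odd, `k + l = dim V`. -/
theorem exists_frames [Finite F] [FiniteDimensional F V] (h2 : (2 : F) ≠ 0) (hQ : Nondeg Q)
    {k l : ℕ} (hl : Odd l) (hV : finrank F V = k + l) :
    ∃ (ν μ : F) (w : Fin k → V) (w' : Fin l → V), Frame Q w ν ∧ Frame Q w' μ ∧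
      ∀ i j, polar Q (w i) (w' j) = 0 := by
  obtain ⟨t, ht⟩ := hl
  let b := finBasis F V
  set d := (LinearMap.BilinForm.toMatrix b (polarBilin Q)).det with hd
  have hd0 : d ≠ 0 :=
    (LinearMap.BilinForm.nondegenerate_iff_det_ne_zero b).1 (nondegenerate_of_nondeg hQ)
  obtain ⟨v, hv1, hv2⟩ := exists_basis_norm h2 hQ b
    (Sum.elim (fun _ : Fin k => (2 : F)⁻¹) (fun _ : Fin l => (2 : F)⁻¹ * d)) (by simp only [hV, _root_.Fintype.card_sum, _root_.Fintype.card_fin, _root_.Nat.add_left_cancel_iff])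
    (by
      rintro (i | i)
      · exact inv_ne_zero h2
      · exact mul_ne_zero (inv_ne_zero h2) hd0) ((d ^ t)⁻¹) (by
      rw [← hd, Fintype.prod_sum_type]
      simp only [Sum.elim_inl, Sum.elim_inr, mul_inv_cancel_left₀ h2, mul_inv_cancel₀ h2,
        Finset.prod_const_one, one_mul, Finset.prod_const, Finset.card_univ, Fintype.card_fin]
      rw [ht]
      field_simp
      ring)
  refine ⟨2⁻¹, 2⁻¹ * d, fun i => v (Sum.inl i), fun i => v (Sum.inr i),
    ⟨inv_ne_zero h2, fun i => hv1 _, fun i j hij => hv2 _ _ fun e => hij (Sum.inl.inj e)⟩,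
    ⟨mul_ne_zero (inv_ne_zero h2) hd0, fun i => hv1 _, fun i j hij => hv2 _ _ fun e => hij (Sum.inr.inj e)⟩,
    fun i j => hv2 _ _ (by simp)⟩

theorem toMatrix_frame {k : ℕ} {w : Fin k → V} {ν : F} (h : Frame Q w ν) (b : Basis (Fin k) F V)
    (hb : ∀ i, b i = w i) : (LinearMap.BilinForm.toMatrix b (polarBilin Q)).det = (2 * ν) ^ k := by
  have e : LinearMap.BilinForm.toMatrix b (polarBilin Q) = Matrix.diagonal fun _ => 2 * ν := by
    ext i j
    rw [LinearMap.BilinForm.toMatrix_apply, polarBilin_apply_apply, hb, hb]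
    by_cases hij : i = j
    · subst hij
      rw [h.polar_self, Matrix.diagonal_apply_eq]
    · rw [h.orth i j hij, Matrix.diagonal_apply_ne _ hij]
  rw [e, Matrix.det_diagonal, Finset.prod_const, Finset.card_univ, Fintype.card_fin]

/-- A frame of an even number of vectors can be replaced by a frame of any other norm with the same span. -/
theorem exists_frame_same_span [Finite F] [FiniteDimensional F V] (h2 : (2 : F) ≠ 0) {k : ℕ}
    (hk : Even k) {w : Fin k → V} {ν : F} (h : Frame Q w ν) {μ : F} (hμ : μ ≠ 0) :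
    ∃ w' : Fin k → V, Frame Q w' μ ∧ Frame.sp (F := F) w' = Frame.sp (F := F) w := by
  obtain ⟨t, ht⟩ := hk
  let Y := Frame.sp (F := F) w
  have hli := h.toRes.linearIndependent h2
  have hfr : finrank F Y = k := h.finrank_span h2
  have hspan : ⊤ ≤ Submodule.span F (Set.range fun i => (⟨w i, Frame.mem_span w i⟩ : Y)) := by
    rw [top_le_iff]
    apply Submodule.eq_top_of_finrank_eq
    rw [hfr]
    exact h.toRes.finrank_span h2
  let b : Basis (Fin k) F Y := Basis.mk hli hspan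
  have hb : ∀ i, b i = ⟨w i, Frame.mem_span w i⟩ := fun i => by
    rw [Basis.mk_apply]
  have hν := h.ne
  obtain ⟨v, hv1, hv2⟩ := exists_basis_norm (Q := res Q Y) h2 (h.nondegOn h2).res b (fun _ : Fin k => μ)
    (by rw [Fintype.card_fin, hfr]) (fun _ => hμ) ((ν * μ⁻¹) ^ t) (by
      rw [toMatrix_frame h.toRes b hb, Finset.prod_const, Finset.card_univ, Fintype.card_fin, ht,
        ← pow_mul, mul_comm t 2, ← two_mul t, ← mul_pow]
      congr 1
      field_simp)
  refine ⟨fun i => (v i : V), ⟨hμ, fun i => hv1 i, fun i j hij => hv2 i j hij⟩, ?_⟩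
  have hF : Frame Q (fun i => (v i : V)) μ := ⟨hμ, fun i => hv1 i, fun i j hij => hv2 i j hij⟩
  refine Submodule.eq_of_le_of_finrank_eq ?_ ?_
  · rw [Submodule.span_le]
    rintro _ ⟨i, rfl⟩
    exact (v i).2
  · rw [hF.finrank_span h2, h.finrank_span h2]

/-- Adding an orthogonal vector of the same norm. -/
theorem Frame.snoc {k : ℕ} {w : Fin k → V} {ν : F} (h : Frame Q w ν) {z : V} (hz : Q z = ν)
    (ho : ∀ i, polar Q (w i) z = 0) : Frame Q (Fin.snoc w z : Fin (k + 1) → V) ν where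
  ne := h.ne
  norm i := by
    refine Fin.lastCases ?_ (fun i => ?_) i
    · rw [Fin.snoc_last, hz]
    · rw [Fin.snoc_castSucc, h.norm]
  orth i j := by
    refine Fin.lastCases ?_ (fun i => ?_) i
    · refine Fin.lastCases ?_ (fun j => ?_) j
      · intro hij
        exact absurd rfl hij
      · intro _
        rw [Fin.snoc_last, Fin.snoc_castSucc, polar_comm, ho]
    · refine Fin.lastCases ?_ (fun j => ?_) j
      · intro _
        rw [Fin.snoc_last, Fin.snoc_castSucc, ho]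
      · intro hij
        rw [Fin.snoc_castSucc, Fin.snoc_castSucc]
        exact h.orth i j fun e => hij (by rw [e])

end Cfsg.Agent.H922.Om
end

-- part: H922/OmRow
section
/-!
**Representations of `Ω_m(q)`, `q` odd, `m ≥ 7`, of dimension `N ≤ 12` over a field in which `2 ≠ 0`**:
if the representation is not trivial and there is no nonzero fixed vector then `N = m`.
-/

set_option autoImplicit false

namespace Cfsg.Agent.H922.Om

open QuadraticMap Cfsg.Agent.LieClassical.OrthCore Cfsg.Agent.LieClassical.OrthTrans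
  Cfsg.Agent.LieClassical.OrthFinite Cfsg.Agent.LieClassical.OrthSimple Cfsg.Agent.H883.Bridge
  Cfsg.Agent.H883.Root Cfsg.Agent.H883.Sub Module

open Equiv (swap swap_apply_left swap_apply_right swap_apply_of_ne_of_ne)

variable {F V : Type*} [Field F] [AddCommGroup V] [Module F V] {Q : QuadraticForm F V}
  {K M : Type*} [Field K] [AddCommGroup M] [Module K M] {ρ : E Q →* Module.End K M}

/-- If a non-scalar element is in the kernel then the representation is trivial. -/
theorem rho_eq_one (hG : Good Q) {t : E Q} (ht : ¬ ∃ c : F, ∀ v : V, (t : V ≃ₗ[F] V) v = c • v)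
    (h1 : ρ t = 1) (g : E Q) : ρ g = 1 := by
  let N : Subgroup (V ≃ₗ[F] V) := ρ.ker.map (E Q).subtype
  have hN1 : N ≤ E Q := Subgroup.map_subtype_le _
  have hN2 : ∀ g ∈ E Q, ∀ n ∈ N, g * n * g⁻¹ ∈ N := by
    rintro g hg _ ⟨n, hn, rfl⟩
    refine ⟨(⟨g, hg⟩ * n * ⟨g, hg⟩⁻¹ :), ?_, rfl⟩
    exact (inferInstance : ρ.ker.Normal).conj_mem n hn ⟨g, hg⟩
  rcases good_normal_dichotomy hG hN1 hN2 with h | h
  · exact absurd (h t ⟨t, h1, rfl⟩) ht
  · have hg : (g : V ≃ₗ[F] V) ∈ N := by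
      rw [h]
      exact g.2
    obtain ⟨g', hg', e⟩ := hg
    have : g' = g := Subtype.ext e
    rw [← this]
    exact hg'

namespace Frame

variable {n : ℕ} {w : Fin n → V} {ν : F}

theorem s_not_scalar (hG : Good Q) (h2 : (2 : F) ≠ 0) (h : Frame Q w ν) {i j k : Fin n}
    (hij : i ≠ j) (hki : k ≠ i) (hkj : k ≠ j) :
    ¬ ∃ c : F, ∀ v : V, (h.s hG i j : V ≃ₗ[F] V) v = c • v := by
  rintro ⟨c, hc⟩
  have h1 := hc (w i)
  have h3 := hc (w k)
  rw [h.s_apply hG hij i, if_pos (Or.inl rfl)] at h1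
  rw [h.s_apply hG hij k, if_neg (by (clear * - n i j k hki hkj; tauto))] at h3
  have h0 : ∀ l, w l ≠ 0 := by
    intro l hl
    have h4 := h.Q_ne l
    rw [hl, QuadraticMap.map_zero] at h4
    exact h4 rfl
  have hc1 : (c + 1) • w i = 0 := by
    rw [add_smul, ← h1, one_smul, neg_add_cancel]
  have hc2 : (c - 1) • w k = 0 := by
    rw [sub_smul, ← h3, one_smul, sub_self]
  have hc1' := (smul_eq_zero.1 hc1).resolve_right (h0 i)
  have hc2' := (smul_eq_zero.1 hc2).resolve_right (h0 k)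
  apply h2
  linear_combination hc1' - hc2'

theorem L_ne_bot (hG : Good Q) (h2 : (2 : F) ≠ 0) (h : Frame Q w ν) (hn : 3 ≤ n)
    (hD : Dec ρ (h.s hG)) (hnt : ∃ g, ρ g ≠ 1) : ∃ a, L ρ (h.s hG) a ≠ ⊥ := by
  by_contra hcon
  push Not at hcon
  obtain ⟨g, hg⟩ := hnt
  apply hg
  refine rho_eq_one hG (h.s_not_scalar hG h2 (i := ⟨0, by omega⟩) (j := ⟨1, by omega⟩)
    (k := ⟨2, by omega⟩) (by simp) (by simp) (by simp)) ?_ g
  have htop : M0 ρ (h.s hG) = ⊤ := by
    unfold Dec at hD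
    rw [iSup_congr hcon, iSup_bot, sup_bot_eq] at hD
    exact hD
  ext v
  rw [Module.End.one_apply]
  have hv : v ∈ M0 ρ (h.s hG) := by
    rw [htop]
    trivial
  exact mem_M0.1 hv _ _

variable [FiniteDimensional K M]

theorem one_le_finrank_L (hG : Good Q) (h2 : (2 : F) ≠ 0) (h : Frame Q w ν) (hn : 3 ≤ n)
    (hD : Dec ρ (h.s hG)) (hnt : ∃ g, ρ g ≠ 1) (a : Fin n) :
    1 ≤ finrank K (L ρ (h.s hG) a) := by
  obtain ⟨b, hb⟩ := h.L_ne_bot hG h2 hn hD hnt
  rw [finrank_L_eq (h.sgn hG h2) hn a b]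
  exact Submodule.one_le_finrank_iff.2 hb

theorem finrank_L_eq_one (hG : Good Q) (h2 : (2 : F) ≠ 0) (hK : (2 : K) ≠ 0) (h : Frame Q w ν)
    (hn : 3 ≤ n) (hD : Dec ρ (h.s hG)) (hnt : ∃ g, ρ g ≠ 1) (hN : finrank K M < 2 * n) (a : Fin n) :
    finrank K (L ρ (h.s hG) a) = 1 := by
  have h1 := h.one_le_finrank_L hG h2 hn hD hnt a
  have h3 := finrank_eq (h.sgn hG h2) hK hn hD a
  have h4 : n * finrank K (L ρ (h.s hG) a) < n * 2 := by omega
  have := lt_of_mul_lt_mul_left h4 (Nat.zero_le n)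
  omega

omit [FiniteDimensional K M] in
/-- Elements fixing the frame vectors preserve the weight spaces. -/
theorem map_L_of_fix (hG : Good Q) (h : Frame Q w ν) {g : E Q}
    (hg : ∀ i, (g : V ≃ₗ[F] V) (w i) = w i) (a : Fin n) {x : M} (hx : x ∈ L ρ (h.s hG) a) :
    ρ g x ∈ L ρ (h.s hG) a := by
  rw [mem_L] at hx ⊢
  intro i j
  have hc : ∀ i, (g : V ≃ₗ[F] V) * refl Q (w i) (h.Q_ne i) = refl Q (w i) (h.Q_ne i) * g := by
    intro i
    have hne : Q ((g : V ≃ₗ[F] V) (w i)) ≠ 0 := by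
      rw [hg i]
      exact h.Q_ne i
    have h1 := refl_conj (E_le_O g.2) (h.Q_ne i) hne
    have h3 : refl Q ((g : V ≃ₗ[F] V) (w i)) hne = refl Q (w i) (h.Q_ne i) := by
      congr 1
      exact hg i
    rw [h3] at h1
    exact mul_inv_eq_iff_eq_mul.1 h1
  have e : h.s hG i j * g = g * h.s hG i j := by
    apply Subtype.ext
    show (refl Q (w i) (h.Q_ne i) * refl Q (w j) (h.Q_ne j)) * (g : V ≃ₗ[F] V) =
      (g : V ≃ₗ[F] V) * (refl Q (w i) (h.Q_ne i) * refl Q (w j) (h.Q_ne j))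
    rw [mul_assoc, ← hc j, ← mul_assoc, ← hc i, mul_assoc]
  rw [← rho_mul, e, rho_mul, hx]
  split
  · rfl
  · rw [map_neg]

/-- The element inducing the product of two transpositions fixes everything orthogonal to the frame. -/
theorem exists_perm (hG : Good Q) (h2 : (2 : F) ≠ 0) (h : Frame Q w ν) {a b c d : Fin n}
    (hab : a ≠ b) (hcd : c ≠ d) :
    ∃ g : E Q, (∀ v, (∀ i, polar Q (w i) v = 0) → (g : V ≃ₗ[F] V) v = v) ∧ (∀ i j,
      g * h.s hG i j * g⁻¹ = h.s hG (swap a b (swap c d i)) (swap a b (swap c d j))) ∧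
      ∀ k, (g : V ≃ₗ[F] V) (w k) = w (swap a b (swap c d k)) := by
  have e : Q (w c - w d) = Q (w a - w b) := by rw [h.Q_sub hab, h.Q_sub hcd]
  have hfix : ∀ {a b : Fin n} (hab : a ≠ b) (v : V), (∀ i, polar Q (w i) v = 0) →
      refl Q (w a - w b) (h.Q_sub_ne h2 hab) v = v := by
    intro a b hab v hv
    rw [refl_apply, polar_sub_left, hv, hv]
    simp only [_root_.sub_self, _root_.MulZeroClass.mul_zero, _root_.zero_smul, _root_.sub_zero]
  refine ⟨⟨refl Q (w a - w b) (h.Q_sub_ne h2 hab) * refl Q (w c - w d) (h.Q_sub_ne h2 hcd),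
    hG.refl_mul_refl_mem _ _ e⟩, fun v hv => ?_, fun i j => ?_, fun k => ?_⟩
  · show refl Q (w a - w b) (h.Q_sub_ne h2 hab) (refl Q (w c - w d) (h.Q_sub_ne h2 hcd) v) = v
    rw [hfix hcd v hv, hfix hab v hv]
  · apply Subtype.ext
    set g : V ≃ₗ[F] V := refl Q (w a - w b) (h.Q_sub_ne h2 hab) *
      refl Q (w c - w d) (h.Q_sub_ne h2 hcd) with hg
    have hgO : g ∈ O Q := (O Q).mul_mem (refl_mem_O _) (refl_mem_O _)
    have hgw : ∀ k, g (w k) = w (swap a b (swap c d k)) := by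
      intro k
      show refl Q (w a - w b) (h.Q_sub_ne h2 hab) (refl Q (w c - w d) (h.Q_sub_ne h2 hcd) (w k)) = _
      rw [h.swap_refl h2 hcd, h.swap_refl h2 hab]
    have hconj : ∀ k, g * refl Q (w k) (h.Q_ne k) * g⁻¹ =
        refl Q (w (swap a b (swap c d k))) (h.Q_ne _) := by
      intro k
      have hne : Q (g (w k)) ≠ 0 := by rw [hgw]; exact h.Q_ne _
      rw [refl_conj hgO (h.Q_ne k) hne]
      congr 1
      exact hgw k
    show g * (refl Q (w i) (h.Q_ne i) * refl Q (w j) (h.Q_ne j)) * g⁻¹ =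
      refl Q (w (swap a b (swap c d i))) (h.Q_ne _) * refl Q (w (swap a b (swap c d j))) (h.Q_ne _)
    rw [← hconj i, ← hconj j]
    group
  · show refl Q (w a - w b) (h.Q_sub_ne h2 hab) (refl Q (w c - w d) (h.Q_sub_ne h2 hcd) (w k)) = _
    rw [h.swap_refl h2 hcd, h.swap_refl h2 hab]

/-- Three orthogonal vectors orthogonal to the frame act trivially on the lines of the frame. -/
theorem L_le_M0_three (hG : Good Q) (h2 : (2 : F) ≠ 0) (h : Frame Q w ν) {w' : Fin 3 → V} {μ : F}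
    (h' : Frame Q w' μ) (ho : ∀ i j, polar Q (w i) (w' j) = 0) {a : Fin n}
    (ha : finrank K (L ρ (h.s hG) a) = 1) : L ρ (h.s hG) a ≤ M0 ρ (h'.s hG) := by
  obtain ⟨x0, hx0, hspan⟩ := finrank_eq_one_iff'.1 ha
  -- elements preserving the line act by scalars
  have hsc : ∀ g : E Q, (∀ i, (g : V ≃ₗ[F] V) (w i) = w i) → ∃ c : K, ρ g (x0 : M) = c • (x0 : M) := by
    intro g hg
    obtain ⟨c, hc⟩ := hspan ⟨ρ g (x0 : M), h.map_L_of_fix hG hg a x0.2⟩
    exact ⟨c, (congrArg Subtype.val hc).symm⟩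
  have hx0' : (x0 : M) ≠ 0 := fun e => hx0 (Subtype.ext e)
  have hsw : ∀ i j k, (h'.s hG i j : V ≃ₗ[F] V) (w k) = w k := fun i j k =>
    h'.s_apply_of_orth hG (by rw [polar_comm]; exact ho k i) (by rw [polar_comm]; exact ho k j)
  -- the three-cycle
  obtain ⟨g, hg1, hg2, -⟩ := h'.exists_perm hG h2 (a := 0) (b := 1) (c := 1) (d := 2) (by decide)
    (by decide)
  have hgw : ∀ k, (g : V ≃ₗ[F] V) (w k) = w k := fun k => hg1 _ fun i => by
    rw [polar_comm]
    exact ho k i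
  obtain ⟨e, he⟩ := hsc g hgw
  have he0 : e ≠ 0 := by
    rintro rfl
    rw [zero_smul] at he
    apply hx0'
    rw [← rho_inv (ρ := ρ) g (x0 : M), he, map_zero]
  have hei : ρ g⁻¹ (x0 : M) = e⁻¹ • (x0 : M) := by
    have h3 : ρ g⁻¹ (ρ g (x0 : M)) = e • ρ g⁻¹ (x0 : M) := by rw [he, map_smul]
    rw [rho_inv] at h3
    conv_rhs => rw [h3]
    rw [smul_smul, inv_mul_cancel₀ he0, one_smul]
  have hconj : ∀ i j, ∀ c : K, ρ (h'.s hG i j) (x0 : M) = c • (x0 : M) →
      ρ (h'.s hG (swap 0 1 (swap 1 2 i)) (swap 0 1 (swap 1 2 j))) (x0 : M) = c • (x0 : M) := by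
    intro i j c hc
    rw [← hg2, rho_mul, rho_mul, hei, map_smul, hc, map_smul, map_smul, he, smul_smul, smul_smul]
    congr 1
    field_simp
  obtain ⟨c, hc⟩ := hsc (h'.s hG 0 1) (hsw 0 1)
  have hc12 : ρ (h'.s hG 1 2) (x0 : M) = c • (x0 : M) := hconj 0 1 c hc
  have hc20 : ρ (h'.s hG 2 0) (x0 : M) = c • (x0 : M) := hconj 1 2 c hc12
  have hs' := h'.sgn hG h2
  have hc02 : ρ (h'.s hG 0 2) (x0 : M) = c • (x0 : M) := by
    rw [hs'.symm]
    exact hc20
  have hcc : c = 1 := by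
    have h3 : ρ (h'.s hG 0 2) (x0 : M) = (c * c) • (x0 : M) := by
      rw [← hs'.mul 0 1 2, rho_mul, hc12, map_smul, hc, smul_smul]
    rw [hc02] at h3
    have h4 : (c * c - c) • (x0 : M) = 0 := by
      rw [sub_smul, ← h3, sub_self]
    have h5 := (smul_eq_zero.1 h4).resolve_right hx0'
    have h6 : c ≠ 0 := by
      rintro rfl
      rw [zero_smul] at hc
      apply hx0'
      rw [← rho_inv (ρ := ρ) (h'.s hG 0 1) (x0 : M), hc, map_zero]
    have h7 : c * (c - 1) = 0 := by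
      linear_combination h5
    exact sub_eq_zero.1 ((mul_eq_zero.1 h7).resolve_left h6)
  subst hcc
  rw [one_smul] at hc hc12 hc20 hc02
  have hx0M : (x0 : M) ∈ M0 ρ (h'.s hG) := by
    rw [mem_M0]
    intro i j
    have key : ∀ i j : Fin 3, i = j ∨ (i = 0 ∧ j = 1) ∨ (i = 1 ∧ j = 0) ∨ (i = 1 ∧ j = 2) ∨
        (i = 2 ∧ j = 1) ∨ (i = 2 ∧ j = 0) ∨ (i = 0 ∧ j = 2) := by decide
    rcases key i j with rfl | ⟨rfl, rfl⟩ | ⟨rfl, rfl⟩ | ⟨rfl, rfl⟩ | ⟨rfl, rfl⟩ | ⟨rfl, rfl⟩ | ⟨rfl, rfl⟩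
    · rw [hs'.self, rho_one]
    · exact hc
    · rw [hs'.symm]; exact hc
    · exact hc12
    · rw [hs'.symm]; exact hc12
    · exact hc20
    · exact hc02
  intro x hx
  obtain ⟨k, hk⟩ := hspan ⟨x, hx⟩
  have : x = k • (x0 : M) := (congrArg Subtype.val hk).symm
  rw [this]
  exact (M0 ρ (h'.s hG)).smul_mem k hx0M

end Frame

/-! ### The two inequalities -/

variable [FiniteDimensional K M]

/-- `Dec` holds for frames with at least seven vectors, or at least five if `N ≤ 9`. -/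
theorem Frame.dec (hG : Good Q) (h2 : (2 : F) ≠ 0) (hK : (2 : K) ≠ 0) {n : ℕ} {w : Fin n → V} {ν : F}
    (h : Frame Q w ν) (hn : 5 ≤ n) (hN : finrank K M ≤ 12) (hNn : finrank K M ≤ 9 ∨ 7 ≤ n) :
    Dec ρ (h.s hG) := by
  rcases hNn with h9 | h7
  · exact dec_nine (h.sgn hG h2) hK hn h9
  · exact dec_twelve (h.sgn hG h2) hK h7 hN

/-- **Lower bound** `m ≤ N`. -/
theorem le_finrank [Finite F] (hG : Good Q) (h2 : (2 : F) ≠ 0) (hK : (2 : K) ≠ 0)
    (hm : 7 ≤ finrank F V) (hN : finrank K M ≤ 12) (hnt : ∃ g, ρ g ≠ 1) :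
    finrank F V ≤ finrank K M := by
  have : FiniteDimensional F V := Module.finite_of_finrank_pos (by omega)
  by_contra hlt
  push Not at hlt
  rcases Nat.lt_or_ge (finrank F V) 8 with hm8 | hm8
  · -- a frame of seven vectors
    have hm7 : finrank F V = 0 + 7 := by omega
    obtain ⟨-, μ, -, w', -, h', -⟩ := exists_frames (Q := Q) h2 hG.nondeg (k := 0) (l := 7)
      (by decide) hm7
    have hD := h'.dec (ρ := ρ) hG h2 hK (by norm_num) hN (Or.inr (by norm_num))
    have h3 := finrank_eq (h'.sgn hG h2) hK (by norm_num) hD 0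
    have h4 := h'.one_le_finrank_L hG h2 (by norm_num) hD hnt 0
    omega
  · obtain ⟨k, hk⟩ : ∃ k, finrank F V = k + 3 := ⟨finrank F V - 3, by omega⟩
    obtain ⟨ν, μ, w, w', h, h', ho⟩ := exists_frames (Q := Q) h2 hG.nondeg (k := k) (l := 3)
      (by decide) hk
    have hD := h.dec (ρ := ρ) hG h2 hK (by omega) hN (by omega)
    have hD' : Dec ρ (h'.s hG) := dec_three (h'.sgn hG h2) hK rfl
    have hL := h.finrank_L_eq_one hG h2 hK (by omega) hD hnt (by omega)
    have h3 := finrank_eq (h.sgn hG h2) hK (by omega) hD ⟨0, by omega⟩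
    have h3' := finrank_eq (h'.sgn hG h2) hK (by omega) hD' 0
    have h4' := h'.one_le_finrank_L hG h2 (by norm_num) hD' hnt 0
    rw [hL, mul_one] at h3
    have htop : M0 ρ (h.s hG) ⊔ M0 ρ (h'.s hG) = ⊤ :=
      hD.induction le_sup_left fun a => le_sup_of_le_right (h.L_le_M0_three hG h2 h' ho (hL a))
    have h5 := Submodule.finrank_add_le_finrank_add_finrank (M0 ρ (h.s hG)) (M0 ρ (h'.s hG))
    rw [htop, finrank_top] at h5
    omega

omit [FiniteDimensional K M] in
/-- A frame of `m = dim V` vectors: no fixed vectors implies `M0 = 0`. -/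
theorem Frame.M0_eq_bot [Finite F] [FiniteDimensional F V] (hG : Good Q) (h2 : (2 : F) ≠ 0)
    (hK : (2 : K) ≠ 0) {n : ℕ} {w : Fin n → V} {ν : F} (h : Frame Q w ν) (hV : finrank F V = n)
    (hn : 6 ≤ n) (hD : Dec ρ (h.s hG)) (hfix : ∀ x : M, (∀ g, ρ g x = x) → x = 0) :
    M0 ρ (h.s hG) = ⊥ := by
  rw [eq_bot_iff]
  intro x hx
  have h1 := h.M0_le_FixS hG h2 hK hn (fun f => hD.comp f) hx
  have hsp : Frame.sp (F := F) w = ⊤ := by
    apply Submodule.eq_top_of_finrank_eq
    rw [h.finrank_span h2, hV]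
  rw [hsp] at h1
  rw [Submodule.mem_bot]
  exact hfix x fun g => mem_FixS_top h1 g

/-- **Upper bound** `N ≤ m`. -/
theorem finrank_le [Finite F] (hG : Good Q) (h2 : (2 : F) ≠ 0) (hK : (2 : K) ≠ 0)
    (hm : 7 ≤ finrank F V) (hN : finrank K M ≤ 12) (hnt : ∃ g, ρ g ≠ 1)
    (hfix : ∀ x : M, (∀ g, ρ g x = x) → x = 0) :
    finrank K M ≤ finrank F V := by
  have : FiniteDimensional F V := Module.finite_of_finrank_pos (by omega)
  rcases Nat.even_or_odd (finrank F V) with hev | hodd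
  · obtain ⟨k, hk⟩ : ∃ k, finrank F V = k + 2 := ⟨finrank F V - 2, by omega⟩
    have hkev : Even k := by
      rw [hk] at hev
      rcases hev with ⟨r, hr⟩
      exact ⟨r - 1, by omega⟩
    have hk6 : 6 ≤ k := by
      rcases hkev with ⟨r, hr⟩
      omega
    obtain ⟨ν, μ, A, z', hA, hz', ho⟩ := exists_frames (Q := Q) h2 hG.nondeg (k := k + 1) (l := 1)
      (by decide) (by omega)
    -- the common frame `C`
    have hC : Frame Q (fun i : Fin k => A (Fin.castSuccEmb i)) ν := hA.comp Fin.castSuccEmb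
    obtain ⟨C', hC', hsp⟩ := exists_frame_same_span h2 hkev hC (μ := μ) hz'.ne
    have hzo : ∀ i, polar Q (C' i) (z' 0) = 0 := by
      intro i
      have h1 : C' i ∈ Frame.sp (F := F) (fun i : Fin k => A (Fin.castSuccEmb i)) := by
        rw [← hsp]
        exact Frame.mem_span C' i
      exact Frame.perp_span (w := fun i : Fin k => A (Fin.castSuccEmb i)) (fun i => ho _ 0) _ h1
    have hB : Frame Q (Fin.snoc C' (z' 0) : Fin (k + 1) → V) μ := hC'.snoc (hz'.norm 0) hzo
    set B : Fin (k + 1) → V := Fin.snoc C' (z' 0) with hBdef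
    have hBC : ∀ i, B (Fin.castSuccEmb i) = C' i := fun i => Fin.snoc_castSucc (α := fun _ => V) (z' 0) C' i
    have hBl : B (Fin.last k) = z' 0 := Fin.snoc_last (α := fun _ => V) (z' 0) C'
    have hDA := hA.dec (ρ := ρ) hG h2 hK (by omega) hN (Or.inr (by omega))
    have hDB := hB.dec (ρ := ρ) hG h2 hK (by omega) hN (Or.inr (by omega))
    have hDC : Dec ρ (hC.s hG) := hDA.comp Fin.castSuccEmb
    have hRZ : Good (res Q (Frame.sp (F := F) C')) := by
      refine good_res (hC'.nondegOn h2) ?_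
      rw [hC'.finrank_span h2]
      omega
    have hRC : Good (res Q (Frame.sp (F := F) fun i : Fin k => A (Fin.castSuccEmb i))) := by
      rw [← hsp]
      exact hRZ
    -- `M0 A` and `M0 B` are contained in `M0 C`
    have hAC : M0 ρ (hA.s hG) ≤ M0 ρ (hC.s hG) := M0_le_comp (Fin.castSuccEmb : Fin k ↪ Fin (k + 1))
    have hFB : M0 ρ (hB.s hG) ≤ FixS ρ (Frame.sp (F := F) B) :=
      hB.M0_le_FixS hG h2 hK (by omega) fun f => hDB.comp f
    have hFA : M0 ρ (hA.s hG) ≤ FixS ρ (Frame.sp (F := F) A) :=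
      hA.M0_le_FixS hG h2 hK (by omega) fun f => hDA.comp f
    have hle1 : Frame.sp (F := F) C' ≤ Frame.sp (F := F) B := by
      rw [Submodule.span_le]
      rintro _ ⟨i, rfl⟩
      rw [← hBC]
      exact Frame.mem_span B _
    have hle2 : Frame.sp (F := F) C' ≤ Frame.sp (F := F) A := by
      rw [hsp, Submodule.span_le]
      rintro _ ⟨i, rfl⟩
      exact Frame.mem_span A _
    have hBC0 : M0 ρ (hB.s hG) ≤ M0 ρ (hC.s hG) := by
      intro x hx
      have h1 : x ∈ FixS ρ (Frame.sp (F := F) C') := by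
        rw [mem_FixS_iff]
        exact (EY_mono hle1).trans (mem_FixS_iff.1 (hFB hx))
      rw [hsp] at h1
      exact hC.FixS_le_M0 hG h2 hRC h1
    -- dimensions
    have hLA := hA.finrank_L_eq_one hG h2 hK (by omega) hDA hnt (by omega) 0
    have hLB := hB.finrank_L_eq_one hG h2 hK (by omega) hDB hnt (by omega) 0
    have hLC := hC.one_le_finrank_L hG h2 (by omega) hDC hnt ⟨0, by omega⟩
    have hdA := finrank_eq (hA.sgn hG h2) hK (by omega) hDA 0
    have hdB := finrank_eq (hB.sgn hG h2) hK (by omega) hDB 0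
    have hdC := finrank_eq (hC.sgn hG h2) hK (by omega) hDC ⟨0, by omega⟩
    rw [hLA, mul_one] at hdA
    rw [hLB, mul_one] at hdB
    have hkL : k ≤ k * finrank K (L ρ (hC.s hG) ⟨0, by omega⟩) := Nat.le_mul_of_pos_right k hLC
    by_contra hlt
    push Not at hlt
    have hsum := Submodule.finrank_sup_add_finrank_inf_eq (M0 ρ (hA.s hG)) (M0 ρ (hB.s hG))
    have hsup : finrank K (M0 ρ (hA.s hG) ⊔ M0 ρ (hB.s hG) : Submodule K M) ≤
        finrank K (M0 ρ (hC.s hG)) := Submodule.finrank_mono (sup_le hAC hBC0)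
    have hpos : (M0 ρ (hA.s hG) ⊓ M0 ρ (hB.s hG) : Submodule K M) ≠ ⊥ := by
      intro h0
      rw [h0, finrank_bot] at hsum
      omega
    obtain ⟨x, hx, hx0⟩ := Submodule.exists_mem_ne_zero_of_ne_bot hpos
    apply hx0
    obtain ⟨x1, x2, hyp⟩ := hRZ.exists_hyp
    have hyp' : Hyp Q (x1 : V) (x2 : V) := ⟨hyp.left, hyp.right, hyp.pair⟩
    have hfx : x ∈ FixS ρ (⊤ : Submodule F V) := by
      refine mem_FixS_of_blocks (nondegOn_top hG.nondeg) ?_ hyp' Submodule.mem_top Submodule.mem_top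
        (fun b : Bool => if b then Frame.sp (F := F) A else Frame.sp (F := F) B) ?_ ?_ ?_ ?_
      · refine good_res (nondegOn_top hG.nondeg) ?_
        rw [finrank_top]
        (clear * - hk hk6; omega)
      · intro b
        cases b
        · exact hle1 x1.2
        · exact hle2 x1.2
      · intro b
        cases b
        · exact hle1 x2.2
        · exact hle2 x2.2
      · -- the two subspaces span `V`
        have h1 : Frame.sp (F := F) A ≤
            ⨆ b : Bool, if b then Frame.sp (F := F) A else Frame.sp (F := F) B :=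
          le_iSup (fun b : Bool => if b then Frame.sp (F := F) A else Frame.sp (F := F) B) true
        have h3 : Frame.sp (F := F) B ≤
            ⨆ b : Bool, if b then Frame.sp (F := F) A else Frame.sp (F := F) B :=
          le_iSup (fun b : Bool => if b then Frame.sp (F := F) A else Frame.sp (F := F) B) false
        have hz : z' 0 ∉ Frame.sp (F := F) A := by
          intro hz
          have h4 := Frame.perp_span (w := A) (Q := Q) (v := z' 0) (fun i => ho i 0) _ hz
          rw [hz'.polar_self] at h4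
          exact mul_ne_zero h2 hz'.ne h4
        have hlt' : Frame.sp (F := F) A < ⨆ b : Bool, if b then Frame.sp (F := F) A else Frame.sp (F := F) B := by
          refine lt_of_le_of_ne h1 fun e => hz ?_
          rw [e]
          apply h3
          rw [← hBl]
          exact Frame.mem_span B _
        have h5 := Submodule.finrank_lt_finrank_of_lt hlt'
        rw [hA.finrank_span h2] at h5
        have h6 : (⨆ b : Bool, if b then Frame.sp (F := F) A else Frame.sp (F := F) B) = ⊤ := by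
          apply Submodule.eq_top_of_finrank_eq
          have := Submodule.finrank_le (⨆ b : Bool, if b then Frame.sp (F := F) A else Frame.sp (F := F) B)
          (clear * - hk h5 this; omega)
        rw [h6]
      · intro b
        cases b
        · exact hFB hx.2
        · exact hFA hx.1
    exact hfix x fun g => mem_FixS_top hfx g
  · obtain ⟨-, μ, -, w', -, h', -⟩ := exists_frames (Q := Q) h2 hG.nondeg (k := 0)
      (l := finrank F V) hodd (by omega)
    have hD := h'.dec (ρ := ρ) hG h2 hK (by omega) hN (Or.inr (by omega))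
    have h0 := h'.M0_eq_bot hG h2 hK rfl (by omega) hD hfix
    have h3 := finrank_eq (h'.sgn hG h2) hK (by omega) hD ⟨0, by omega⟩
    have h4 := h'.finrank_L_eq_one hG h2 hK (by omega) hD hnt (by omega) ⟨0, by omega⟩
    rw [h0, finrank_bot, h4, mul_one, zero_add] at h3
    omega

/-- **The dimension theorem.**  Let `G = E Q = Ω_m(q)`, `q` odd, `m ≥ 7`, act on a space of dimension
`N ≤ 12` over a field in which `2 ≠ 0`, nontrivially and without nonzero fixed vectors.  Then `N = m`. -/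
theorem finrank_eq_finrank [Finite F] (hG : Good Q) (h2 : (2 : F) ≠ 0) (hK : (2 : K) ≠ 0)
    (hm : 7 ≤ finrank F V) (hN : finrank K M ≤ 12) (hnt : ∃ g, ρ g ≠ 1)
    (hfix : ∀ x : M, (∀ g, ρ g x = x) → x = 0) :
    finrank K M = finrank F V :=
  le_antisymm (finrank_le hG h2 hK hm hN hnt hfix) (le_finrank hG h2 hK hm hN hnt)

end Cfsg.Agent.H922.Om
end

-- part: H922/OmId
section
/-!
**Identification of the natural module of `Ω_m(q)`**, `q` odd, `m ≥ 7`: a representation of dimension `m`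
(over any field `K` with `2 ≠ 0`) in which a full frame acts with `m` one-dimensional weight spaces `L a` is
`V ⊗_f K` for a ring homomorphism `f : F →+* K`.

First part: the vectors `mv v`, `Q v = ν`, and the coordinate function `f`.
-/

set_option autoImplicit false

namespace Cfsg.Agent.H922.Om

open QuadraticMap Cfsg.Agent.LieClassical.OrthCore Cfsg.Agent.LieClassical.OrthTrans
  Cfsg.Agent.LieClassical.OrthFinite Cfsg.Agent.LieClassical.OrthSimple Cfsg.Agent.H883.Bridge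
  Cfsg.Agent.H883.Root Cfsg.Agent.H883.Sub Module

open Equiv (swap swap_apply_left swap_apply_right swap_apply_of_ne_of_ne)

variable {F V : Type*} [Field F] [AddCommGroup V] [Module F V] {Q : QuadraticForm F V}
  {K M : Type*} [Field K] [AddCommGroup M] [Module K M]

/-- The hypotheses: a full frame `w`, the representation has the same dimension, and the lines `L a`. -/
structure FullNat (ρ : E Q →* Module.End K M) {k : ℕ} (w : Fin (k + 1) → V) (ν : F) : Prop where
  hG : Good Q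
  h2 : (2 : F) ≠ 0
  hK : (2 : K) ≠ 0
  fr : Frame Q w ν
  hk : 6 ≤ k
  hV : finrank F V = k + 1
  hM : finrank K M = k + 1
  dec : Dec ρ (fr.s hG)
  line : ∀ a, finrank K (L ρ (fr.s hG) a) = 1

namespace FullNat

variable {ρ : E Q →* Module.End K M} {k : ℕ} {w : Fin (k + 1) → V} {ν : F}

theorem finV (N : FullNat ρ w ν) : FiniteDimensional F V :=
  Module.finite_of_finrank_pos (by rw [N.hV]; omega)

theorem finM (N : FullNat ρ w ν) : FiniteDimensional K M :=
  Module.finite_of_finrank_pos (by rw [N.hM]; omega)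

/-- `(2ν)⁻¹ polar`: for frame vectors, the coordinates. -/
def ip (Q : QuadraticForm F V) (ν : F) (u v : V) : F := (2 * ν)⁻¹ * polar Q u v

theorem two_nu_ne (N : FullNat ρ w ν) : 2 * ν ≠ 0 := mul_ne_zero N.h2 N.fr.ne

theorem ip_self (N : FullNat ρ w ν) (i : Fin (k + 1)) : ip Q ν (w i) (w i) = 1 := by
  rw [ip, N.fr.polar_self, inv_mul_cancel₀ N.two_nu_ne]

theorem ip_ne (N : FullNat ρ w ν) {i j : Fin (k + 1)} (hij : i ≠ j) : ip Q ν (w i) (w j) = 0 := by
  rw [ip, N.fr.orth i j hij, mul_zero]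

theorem ip_add (u v v' : V) : ip Q ν u (v + v') = ip Q ν u v + ip Q ν u v' := by
  rw [ip, polar_add_right, mul_add]; rfl

theorem ip_smul (u : V) (c : F) (v : V) : ip Q ν u (c • v) = c * ip Q ν u v := by
  rw [ip, ip, polar_smul_right, smul_eq_mul]; ring

theorem ip_neg (u v : V) : ip Q ν u (-v) = - ip Q ν u v := by
  rw [ip, ip, polar_neg_right]; ring

theorem ip_comm (u v : V) : ip Q ν u v = ip Q ν v u := by
  rw [ip, ip, polar_comm]

theorem ip_map {g : V ≃ₗ[F] V} (hg : g ∈ O Q) (u v : V) : ip Q ν (g u) (g v) = ip Q ν u v := by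
  rw [ip, ip, polar_map hg]

theorem ip_sum {ι : Type*} (s : Finset ι) (u : V) (g : ι → V) :
    ip Q ν u (∑ i ∈ s, g i) = ∑ i ∈ s, ip Q ν u (g i) := by
  have := map_sum (polarBilin Q u) g s
  simp only [polarBilin_apply_apply] at this
  rw [ip, this, Finset.mul_sum]
  rfl

theorem sp_eq_top (N : FullNat ρ w ν) : Frame.sp (F := F) w = ⊤ := by
  have := N.finV
  apply Submodule.eq_top_of_finrank_eq
  rw [N.fr.finrank_span N.h2, N.hV]

/-- Expansion of a vector in the frame. -/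
theorem expand (N : FullNat ρ w ν) (v : V) : v = ∑ i, ip Q ν (w i) v • w i := by
  have hv : v ∈ Frame.sp (F := F) w := by
    rw [N.sp_eq_top]
    trivial
  obtain ⟨c, hc⟩ := (Submodule.mem_span_range_iff_exists_fun F).1 hv
  have h1 : ∀ i, ip Q ν (w i) v = c i := by
    intro i
    rw [← hc, ip_sum, Finset.sum_eq_single i]
    · rw [ip_smul, N.ip_self, mul_one]
    · intro j _ hj
      rw [ip_smul, N.ip_ne (Ne.symm hj), mul_zero]
    · intro hi
      exact absurd (Finset.mem_univ i) hi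
  conv_lhs => rw [← hc]
  exact Finset.sum_congr rfl fun i _ => by rw [h1]

/-- The orthogonal complement of `w a`. -/
abbrev U (w : Fin (k + 1) → V) (a : Fin (k + 1)) : Submodule F V :=
  Frame.sp (F := F) fun j => w (a.succAboveEmb j)

theorem frU (N : FullNat ρ w ν) (a : Fin (k + 1)) : Frame Q (fun j => w (a.succAboveEmb j)) ν :=
  N.fr.comp a.succAboveEmb

theorem mem_U (N : FullNat ρ w ν) {a : Fin (k + 1)} {v : V} (hv : polar Q (w a) v = 0) :
    v ∈ U (F := F) w a := by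
  rw [N.expand v]
  refine Submodule.sum_mem _ fun i _ => ?_
  by_cases hi : i = a
  · subst hi
    rw [ip, hv, mul_zero, zero_smul]
    exact Submodule.zero_mem _
  · obtain ⟨j, rfl⟩ := Fin.exists_succAbove_eq hi
    exact Submodule.smul_mem _ _ (Frame.mem_span (fun j => w (a.succAboveEmb j)) j)

theorem orth_U (N : FullNat ρ w ν) {a : Fin (k + 1)} {v : V} (hv : v ∈ U (F := F) w a) :
    polar Q (w a) v = 0 := by
  rw [polar_comm]
  refine Frame.perp_span (w := fun j => w (a.succAboveEmb j)) (fun i => ?_) v hv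
  exact N.fr.orth _ _ (Fin.succAbove_ne a i)

theorem perp_U (N : FullNat ρ w ν) {a : Fin (k + 1)} {v : V} (hv : v ∈ perp Q (U (F := F) w a)) :
    v = ip Q ν (w a) v • w a := by
  have h1 := N.expand v
  rw [Finset.sum_eq_single a] at h1
  · exact h1
  · intro i _ hi
    obtain ⟨j, rfl⟩ := Fin.exists_succAbove_eq hi
    have := mem_perp.1 hv _ (Frame.mem_span (fun j => w (a.succAboveEmb j)) j)
    rw [ip]
    show ((2 * ν)⁻¹ * polar Q (w (a.succAboveEmb j)) v) • _ = _
    rw [this, mul_zero, zero_smul]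
  · intro h
    exact absurd (Finset.mem_univ a) h

theorem nondegU (N : FullNat ρ w ν) (a : Fin (k + 1)) : NondegOn Q (U (F := F) w a) :=
  (N.frU a).nondegOn N.h2

theorem goodU [Finite F] (N : FullNat ρ w ν) (a : Fin (k + 1)) : Good (res Q (U (F := F) w a)) := by
  refine good_res (N.nondegU a) ?_
  rw [(N.frU a).finrank_span N.h2]
  have := N.hk
  omega

/-- The stabiliser of a frame vector. -/
theorem mem_EY [Finite F] (N : FullNat ρ w ν) {a : Fin (k + 1)} {g : V ≃ₗ[F] V} (hg : g ∈ E Q)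
    (ha : g (w a) = w a) : g ∈ EY Q (U (F := F) w a) := by
  have := N.finV
  refine mem_EY_of_fix N.h2 N.hG (N.nondegU a) (N.goodU a) hg fun v hv => ?_
  rw [N.perp_U hv, map_smul, ha]

theorem L_le_FixS [Finite F] (N : FullNat ρ w ν) (a : Fin (k + 1)) :
    L ρ (N.fr.s N.hG) a ≤ FixS ρ (U (F := F) w a) := by
  have := N.finV
  have h1 : L ρ (N.fr.s N.hG) a ≤ M0 ρ ((N.frU a).s N.hG) :=
    L_le_M0_comp a.succAboveEmb fun i => Fin.succAbove_ne a i
  exact h1.trans ((N.frU a).M0_le_FixS N.hG N.h2 N.hK N.hk fun f =>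
    (N.dec.comp a.succAboveEmb).comp f)

theorem fix_line [Finite F] (N : FullNat ρ w ν) {a : Fin (k + 1)} {g : E Q}
    (ha : (g : V ≃ₗ[F] V) (w a) = w a) {x : M} (hx : x ∈ L ρ (N.fr.s N.hG) a) : ρ g x = x :=
  N.L_le_FixS a hx _ (N.mem_EY g.2 ha)

/-! ### The vectors `mv v` -/

theorem exists_map (N : FullNat ρ w ν) {v : V} (hv : Q v = ν) :
    ∃ g : E Q, (g : V ≃ₗ[F] V) (w 0) = v := by
  have hne : ∀ {v : V}, Q v = ν → v ≠ 0 := by
    rintro v hv rfl
    rw [QuadraticMap.map_zero] at hv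
    exact N.fr.ne hv.symm
  obtain ⟨g, hg, e⟩ := N.hG.trans_norm (hne (N.fr.norm 0)) (hne hv) (by rw [N.fr.norm, hv])
  exact ⟨⟨g, hg⟩, e⟩

open Classical in
/-- The vector of `M` corresponding to `v`, `Q v = ν`. -/
noncomputable def mv (N : FullNat ρ w ν) (m0 : M) (v : V) : M :=
  if hv : Q v = ν then ρ (N.exists_map hv).choose m0 else 0

theorem Q_map (_N : FullNat ρ w ν) (g : E Q) {v : V} (hv : Q v = ν) :
    Q ((g : V ≃ₗ[F] V) v) = ν := by
  rw [E_le_O g.2, hv]

variable {m0 : M}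

theorem mv_eq [Finite F] (N : FullNat ρ w ν) (hm0 : m0 ∈ L ρ (N.fr.s N.hG) 0) {g : E Q} {v : V}
    (hv : (g : V ≃ₗ[F] V) (w 0) = v) : N.mv m0 v = ρ g m0 := by
  have hQ : Q v = ν := by
    rw [← hv]
    exact N.Q_map g (N.fr.norm 0)
  rw [mv, dif_pos hQ]
  have h1 := (N.exists_map hQ).choose_spec
  set g' := (N.exists_map hQ).choose with hg'
  have h3 : ((g⁻¹ * g' : E Q) : V ≃ₗ[F] V) (w 0) = w 0 := by
    show (g : V ≃ₗ[F] V).symm ((g' : V ≃ₗ[F] V) (w 0)) = w 0
    rw [h1, ← hv, LinearEquiv.symm_apply_apply]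
  have h4 := N.fix_line h3 hm0
  rw [rho_mul] at h4
  rw [← rho_inv' (ρ := ρ) g (ρ g' m0), h4]

theorem mv_map [Finite F] (N : FullNat ρ w ν) (hm0 : m0 ∈ L ρ (N.fr.s N.hG) 0) (g : E Q) {v : V}
    (hv : Q v = ν) : ρ g (N.mv m0 v) = N.mv m0 ((g : V ≃ₗ[F] V) v) := by
  obtain ⟨g', hg'⟩ := N.exists_map hv
  rw [N.mv_eq hm0 hg', N.mv_eq hm0 (g := g * g') (v := (g : V ≃ₗ[F] V) v) (by
    show (g : V ≃ₗ[F] V) ((g' : V ≃ₗ[F] V) (w 0)) = _
    rw [hg']), rho_mul]

/-- An element of `E Q` permuting the frame and mapping `w 0` to `w i`. -/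
theorem exists_pi (N : FullNat ρ w ν) (i : Fin (k + 1)) :
    ∃ (g : E Q) (σ : Equiv.Perm (Fin (k + 1))), σ 0 = i ∧
      (∀ j, (g : V ≃ₗ[F] V) (w j) = w (σ j)) ∧
      ∀ a b, g * N.fr.s N.hG a b * g⁻¹ = N.fr.s N.hG (σ a) (σ b) := by
  by_cases hi : i = 0
  · refine ⟨1, 1, by rw [hi]; rfl, fun j => rfl, fun a b => ?_⟩
    rw [one_mul, inv_one, mul_one]
    rfl
  · obtain ⟨c, d, hcd, hc, hd⟩ := exists_two (n := k + 1) (by have := N.hk; omega) (0 : Fin (k + 1))
    obtain ⟨g, -, hg1, hg2⟩ := N.fr.exists_perm N.hG N.h2 (a := 0) (b := i) (Ne.symm hi) hcd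
    refine ⟨g, (swap c d).trans (swap 0 i), ?_, hg2, hg1⟩
    show swap 0 i (swap c d 0) = i
    rw [swap_apply_of_ne_of_ne hc.symm hd.symm, swap_apply_left]

theorem mv_mem_L [Finite F] (N : FullNat ρ w ν) (hm0 : m0 ∈ L ρ (N.fr.s N.hG) 0) (i : Fin (k + 1)) :
    N.mv m0 (w i) ∈ L ρ (N.fr.s N.hG) i := by
  obtain ⟨g, σ, h0, h1, h3⟩ := N.exists_pi i
  have h4 : (g : V ≃ₗ[F] V) (w 0) = w i := by rw [h1, h0]
  rw [N.mv_eq hm0 h4, ← h0]
  exact L_map_of_conj h3 hm0

theorem mv_ne [Finite F] (N : FullNat ρ w ν) (hm0 : m0 ∈ L ρ (N.fr.s N.hG) 0) (h0 : m0 ≠ 0) {v : V}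
    (hv : Q v = ν) : N.mv m0 v ≠ 0 := by
  obtain ⟨g, hg⟩ := N.exists_map hv
  rw [N.mv_eq hm0 hg]
  intro e
  apply h0
  rw [← rho_inv (ρ := ρ) g m0, e, map_zero]

theorem exists_basis [Finite F] (N : FullNat ρ w ν) (hm0 : m0 ∈ L ρ (N.fr.s N.hG) 0) (h0 : m0 ≠ 0) :
    ∃ b : Basis (Fin (k + 1)) K M, ∀ i, b i = N.mv m0 (w i) := by
  have hli : LinearIndependent K fun i => N.mv m0 (w i) :=
    (iSupIndep_L (N.fr.sgn N.hG N.h2) N.hK (by have := N.hk; omega)).linearIndependent _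
      (fun i => N.mv_mem_L hm0 i) fun i => N.mv_ne hm0 h0 (N.fr.norm i)
  exact ⟨basisOfLinearIndependentOfCardEqFinrank hli (by rw [N.hM, Fintype.card_fin]), fun i => by
    rw [coe_basisOfLinearIndependentOfCardEqFinrank]⟩

end FullNat

/-- The data with the chosen vector and basis. -/
structure NatB (ρ : E Q →* Module.End K M) {k : ℕ} (w : Fin (k + 1) → V) (ν : F) (m0 : M)
    (b : Basis (Fin (k + 1)) K M) : Prop extends FullNat ρ w ν where
  hm0 : m0 ∈ L ρ (fr.s hG) 0
  hm0' : m0 ≠ 0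
  hb : ∀ i, b i = toFullNat.mv m0 (w i)

namespace NatB

open FullNat

variable {ρ : E Q →* Module.End K M} {k : ℕ} {w : Fin (k + 1) → V} {ν : F} {m0 : M}
  {b : Basis (Fin (k + 1)) K M}

theorem b_mem [Finite F] (N : NatB ρ w ν m0 b) (i : Fin (k + 1)) :
    b i ∈ L ρ (N.fr.s N.hG) i := by
  rw [N.hb]
  exact N.mv_mem_L N.hm0 i

/-- **Invariance of the coordinates** under the stabiliser of the frame vector. -/
theorem coord_map [Finite F] (N : NatB ρ w ν m0 b) {i : Fin (k + 1)} {g : E Q}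
    (hg : (g : V ≃ₗ[F] V) (w i) = w i) (y : M) : b.coord i (ρ g y) = b.coord i y := by
  have := N.finV
  -- the subgroup of elements with the property
  let H : Subgroup (V ≃ₗ[F] V) :=
    { carrier := {g | ∃ hg : g ∈ E Q, ∀ y, b.coord i (ρ ⟨g, hg⟩ y) = b.coord i y}
      mul_mem' := by
        rintro x z ⟨hx, h1⟩ ⟨hz, h3⟩
        refine ⟨(E Q).mul_mem hx hz, fun y => ?_⟩
        have e : (⟨x * z, (E Q).mul_mem hx hz⟩ : E Q) = ⟨x, hx⟩ * ⟨z, hz⟩ := rfl
        rw [e, rho_mul, h1, h3]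
      one_mem' := ⟨(E Q).one_mem, fun y => congrArg _ (rho_one y)⟩
      inv_mem' := by
        rintro x ⟨hx, h1⟩
        refine ⟨(E Q).inv_mem hx, fun y => ?_⟩
        have e : (⟨x⁻¹, (E Q).inv_mem hx⟩ : E Q) = ⟨x, hx⟩⁻¹ := rfl
        rw [e, ← h1 (ρ ⟨x, hx⟩⁻¹ y), rho_inv'] }
  have hH : EY Q (U (F := F) w i) ≤ H := by
    refine (N.frU i).EY_sp_le_of_six N.h2 N.hk fun f => ?_
    intro g hg
    refine ⟨EY_le_E hg, fun y => ?_⟩
    have hC := (N.frU i).comp f
    set g' : E Q := ⟨g, EY_le_E hg⟩ with hg'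
    have hDC : Dec ρ (hC.s N.hG) := (N.dec.comp i.succAboveEmb).comp f
    have hRC : Good (res Q (Frame.sp (F := F) fun j => w (i.succAboveEmb (f j)))) := by
      refine good_res (hC.nondegOn N.h2) ?_
      rw [hC.finrank_span N.h2]
      norm_num
    -- the involution `zz`
    have hzz : ∀ j, ρ (hC.zz N.hG) (b j) = if ∃ t, i.succAboveEmb (f t) = j then - b j else b j := by
      intro j
      split
      · rename_i hj
        obtain ⟨t, rfl⟩ := hj
        refine hC.zz_L N.hG (a := t) ?_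
        exact (L_le_comp (f.trans i.succAboveEmb) t (N.b_mem _) :)
      · rename_i hj
        push Not at hj
        refine hC.zz_M0 N.hG ?_
        exact (L_le_M0_comp (f.trans i.succAboveEmb) (fun t => hj t) (N.b_mem _) :)
    have hczz : ∀ y, b.coord i (ρ (hC.zz N.hG) y) = b.coord i y := by
      have h1 : (b.coord i).comp (ρ (hC.zz N.hG)) = b.coord i := by
        refine b.ext fun j => ?_
        rw [LinearMap.comp_apply, hzz]
        split
        · rename_i hj
          obtain ⟨t, rfl⟩ := hj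
          have hne : i.succAboveEmb (f t) ≠ i := Fin.succAbove_ne i (f t)
          rw [map_neg, Basis.coord_apply, Basis.repr_self, Finsupp.single_apply, if_neg hne, neg_zero]
        · rfl
      intro y
      exact congrArg (fun φ : M →ₗ[K] K => φ y) h1
    have h1 : (b.coord i).comp (ρ g') = b.coord i := by
      refine b.ext fun j => ?_
      rw [LinearMap.comp_apply]
      by_cases hj : ∃ t, i.succAboveEmb (f t) = j
      · have h3 : ρ (hC.zz N.hG) (ρ g' (b j)) = - ρ g' (b j) := by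
          have e : hC.zz N.hG * g' = g' * hC.zz N.hG := Subtype.ext (hC.zz_comm N.hG N.h2 hg)
          rw [← rho_mul, e, rho_mul, hzz, if_pos hj, map_neg]
        have h4 := hczz (ρ g' (b j))
        rw [h3, map_neg] at h4
        have h5 : (2 : K) * b.coord i (ρ g' (b j)) = 0 := by linear_combination -h4
        have h6 := (mul_eq_zero.1 h5).resolve_left N.hK
        rw [h6]
        obtain ⟨t, rfl⟩ := hj
        have hne : i.succAboveEmb (f t) ≠ i := Fin.succAbove_ne i (f t)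
        rw [Basis.coord_apply, Basis.repr_self, Finsupp.single_apply, if_neg hne]
      · push Not at hj
        have h3 : b j ∈ M0 ρ (hC.s N.hG) :=
          (L_le_M0_comp (f.trans i.succAboveEmb) (fun t => hj t) (N.b_mem _) :)
        have h4 := hC.M0_le_FixS_six N.hG N.h2 N.hK hRC hDC h3
        rw [h4 g hg]
    exact congrArg (fun φ : M →ₗ[K] K => φ y) h1
  obtain ⟨hg', h1⟩ := hH (N.mem_EY g.2 hg)
  exact h1 y

theorem coord_pi [Finite F] (N : NatB ρ w ν m0 b) {g : E Q} {σ : Equiv.Perm (Fin (k + 1))}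
    (hg : ∀ j, (g : V ≃ₗ[F] V) (w j) = w (σ j)) (i : Fin (k + 1)) (y : M) :
    b.coord (σ i) (ρ g y) = b.coord i y := by
  have h1 : (b.coord (σ i)).comp (ρ g) = b.coord i := by
    refine b.ext fun j => ?_
    rw [LinearMap.comp_apply, N.hb j, N.mv_map N.hm0 g (N.fr.norm j), hg, ← N.hb, ← N.hb,
      Basis.coord_apply, Basis.coord_apply, Basis.repr_self, Basis.repr_self, Finsupp.single_apply,
      Finsupp.single_apply]
    simp only [EmbeddingLike.apply_eq_iff_eq]
  exact congrArg (fun φ : M →ₗ[K] K => φ y) h1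

/-! ### The coordinate function -/

theorem exists_y [Finite F] (N : NatB ρ w ν m0 b) (x : F) :
    ∃ y ∈ U (F := F) w 0, y ≠ 0 ∧ Q y = ν * (1 - x * x) := by
  obtain ⟨a, c, hyp⟩ := (N.goodU 0).exists_hyp
  have hyp' : Hyp Q (a : V) (c : V) := ⟨hyp.left, hyp.right, hyp.pair⟩
  obtain ⟨h1, h3⟩ := exists_value hyp' (ν * (1 - x * x))
  exact ⟨_, Submodule.add_mem _ a.2 (Submodule.smul_mem _ _ c.2), h3, h1⟩

/-- The function `f : F → K`. -/
noncomputable def f [Finite F] (N : NatB ρ w ν m0 b) (x : F) : K :=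
  b.coord 0 (N.mv m0 (x • w 0 + (N.exists_y x).choose))

theorem coord_zero [Finite F] (N : NatB ρ w ν m0 b) {v : V} (hv : Q v = ν) (h1 : v ≠ w 0)
    (h3 : v ≠ - w 0) : b.coord 0 (N.mv m0 v) = N.f (ip Q ν (w 0) v) := by
  have := N.finV
  set x := ip Q ν (w 0) v with hx
  obtain ⟨hyU, hy0, hyQ⟩ := (N.exists_y x).choose_spec
  set y := (N.exists_y x).choose with hy
  set y' := v - x • w 0 with hy'
  have hpx : polar Q (w 0) v = 2 * ν * x := by
    rw [hx, ip, ← mul_assoc, mul_inv_cancel₀ N.two_nu_ne, one_mul]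
  have hy'p : polar Q (w 0) y' = 0 := by
    rw [hy', polar_sub_right, polar_smul_right, N.fr.polar_self, hpx, smul_eq_mul]
    ring
  have hy'U : y' ∈ U (F := F) w 0 := N.mem_U hy'p
  have hve : v = x • w 0 + y' := by rw [hy', add_sub_cancel]
  have hy'Q : Q y' = ν * (1 - x * x) := by
    have h4 : Q v = x * x * ν + Q y' := by
      conv_lhs => rw [hve]
      rw [Q_add, QuadraticMap.map_smul, polar_smul_left, hy'p, N.fr.norm, smul_eq_mul]
      simp
    rw [hv] at h4
    linear_combination -h4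
  have hy'0 : y' ≠ 0 := by
    intro h0
    rw [h0, QuadraticMap.map_zero] at hy'Q
    have h5 : (1 - x) * (1 + x) = 0 := by
      have := (mul_eq_zero.1 hy'Q.symm).resolve_left N.fr.ne
      linear_combination this
    rw [h0, add_zero] at hve
    rcases mul_eq_zero.1 h5 with h6 | h6
    · apply h1
      rw [hve, show x = 1 by linear_combination -h6, one_smul]
    · apply h3
      rw [hve, show x = -1 by linear_combination h6, neg_one_smul]
  obtain ⟨g, hg, hgy⟩ := EY_trans_norm (N.goodU 0) hyU hy'U (by rw [hyQ, hy'Q]) hy0 hy'0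
  have hgw : g (w 0) = w 0 := EY_fix hg fun u hu => by
    rw [polar_comm]
    exact N.orth_U hu
  have hgv : ((⟨g, EY_le_E hg⟩ : E Q) : V ≃ₗ[F] V) (x • w 0 + y) = v := by
    show g (x • w 0 + y) = v
    rw [map_add, map_smul, hgw, hgy, ← hve]
  have hQx : Q (x • w 0 + y) = ν := by
    rw [Q_add, QuadraticMap.map_smul, polar_smul_left, N.orth_U hyU, N.fr.norm, hyQ, smul_eq_mul,
      smul_eq_mul]
    ring
  have h7 := N.coord_map (g := ⟨g, EY_le_E hg⟩) hgw (N.mv m0 (x • w 0 + y))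
  rw [N.mv_map N.hm0 _ hQx, hgv] at h7
  exact h7

theorem coord_eq [Finite F] (N : NatB ρ w ν m0 b) {v : V} (hv : Q v = ν) {i : Fin (k + 1)}
    (h1 : v ≠ w i) (h3 : v ≠ - w i) : b.coord i (N.mv m0 v) = N.f (ip Q ν (w i) v) := by
  obtain ⟨g, σ, h0, hg, -⟩ := N.exists_pi i
  set v' := ((g⁻¹ : E Q) : V ≃ₗ[F] V) v with hv'
  have hgv : (g : V ≃ₗ[F] V) v' = v := LinearEquiv.apply_symm_apply (g : V ≃ₗ[F] V) v
  have hQ' : Q v' = ν := N.Q_map g⁻¹ hv
  have h4 : (g : V ≃ₗ[F] V) (w 0) = w i := by rw [hg, h0]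
  have h5 : v' ≠ w 0 := by
    intro e
    apply h1
    rw [← hgv, e, h4]
  have h6 : v' ≠ - w 0 := by
    intro e
    apply h3
    rw [← hgv, e, map_neg, h4]
  have h7 := N.coord_zero hQ' h5 h6
  have h8 := N.coord_pi hg 0 (N.mv m0 v')
  rw [h0, N.mv_map N.hm0 g hQ', hgv] at h8
  rw [h8, h7]
  congr 1
  rw [← h4, ← ip_map (E_le_O g.2) (w 0) v', hgv]

end NatB

end Cfsg.Agent.H922.Om
end

-- part: H922/OmIdTwo
section
/-!
**Identification of the natural module of `Ω_m(q)`**, second part: `f` is a ring homomorphism, the semilinear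
map `θ`.
-/

set_option autoImplicit false

namespace Cfsg.Agent.H922.Om

open QuadraticMap Cfsg.Agent.LieClassical.OrthCore Cfsg.Agent.LieClassical.OrthTrans
  Cfsg.Agent.LieClassical.OrthFinite Cfsg.Agent.LieClassical.OrthSimple Cfsg.Agent.H883.Bridge
  Cfsg.Agent.H883.Root Cfsg.Agent.H883.Sub Module

variable {F V : Type*} [Field F] [AddCommGroup V] [Module F V] {Q : QuadraticForm F V}
  {K M : Type*} [Field K] [AddCommGroup M] [Module K M]

namespace NatB

open FullNat

variable {ρ : E Q →* Module.End K M} {k : ℕ} {w : Fin (k + 1) → V} {ν : F} {m0 : M}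
  {b : Basis (Fin (k + 1)) K M}

theorem sum_coord [Finite F] (_N : NatB ρ w ν m0 b) (x : M) : x = ∑ i, b.coord i x • b i := by
  conv_lhs => rw [← b.sum_repr x]
  rfl

/-- The basic identity. -/
theorem star [Finite F] (N : NatB ρ w ν m0 b) {u v : V} (hu : Q u = ν) (hv : Q v = ν)
    (hcv : ∀ i, b.coord i (N.mv m0 v) = N.f (ip Q ν (w i) v)) (hu1 : ∀ i, u ≠ w i)
    (hu3 : ∀ i, u ≠ - w i) (h1 : v ≠ u) (h3 : v ≠ - u) :
    N.f (ip Q ν u v) = ∑ i, N.f (ip Q ν (w i) u) * N.f (ip Q ν (w i) v) := by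
  obtain ⟨g, hg⟩ := N.exists_map hu
  have hgi : ∀ {x y : V}, ((g⁻¹ : E Q) : V ≃ₗ[F] V) x = y ↔ x = (g : V ≃ₗ[F] V) y := by
    intro x y
    exact LinearEquiv.symm_apply_eq (g : V ≃ₗ[F] V)
  have hip : ∀ x, ip Q ν (w 0) (((g⁻¹ : E Q) : V ≃ₗ[F] V) x) = ip Q ν u x := by
    intro x
    rw [← ip_map (E_le_O g.2) (w 0), hg]
    congr 1
    exact LinearEquiv.apply_symm_apply (g : V ≃ₗ[F] V) x
  have key : b.coord 0 (ρ g⁻¹ (N.mv m0 v)) = N.f (ip Q ν u v) := by
    rw [N.mv_map N.hm0 _ hv, N.coord_zero (N.Q_map _ hv), hip]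
    · intro e
      rw [hgi, hg] at e
      exact h1 e
    · intro e
      rw [hgi, map_neg, hg] at e
      exact h3 e
  rw [← key]
  conv_lhs => rw [N.sum_coord (N.mv m0 v)]
  rw [map_sum, map_sum]
  refine Finset.sum_congr rfl fun i _ => ?_
  rw [map_smul, map_smul, smul_eq_mul, hcv, mul_comm]
  congr 1
  rw [N.hb i, N.mv_map N.hm0 _ (N.fr.norm i), N.coord_zero (N.Q_map _ (N.fr.norm i)), hip, ip_comm]
  · intro e
    rw [hgi, hg] at e
    exact hu1 i e.symm
  · intro e
    rw [hgi, map_neg, hg] at e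
    exact hu3 i (by rw [e, neg_neg])

theorem coord_w [Finite F] (N : NatB ρ w ν m0 b) (i j : Fin (k + 1)) :
    b.coord i (N.mv m0 (w j)) = if j = i then 1 else 0 := by
  rw [← N.hb, Basis.coord_apply, Basis.repr_self, Finsupp.single_apply]

theorem w_ne [Finite F] (N : NatB ρ w ν m0 b) {i j : Fin (k + 1)} (hij : i ≠ j) : w i ≠ w j := by
  intro e
  have h1 := N.ip_ne hij
  rw [e, N.ip_self] at h1
  exact one_ne_zero h1

theorem w_ne_neg [Finite F] (N : NatB ρ w ν m0 b) {i j : Fin (k + 1)} (hij : i ≠ j) :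
    w i ≠ - w j := by
  intro e
  have h1 := N.ip_ne hij
  rw [e] at h1
  have h3 : ip Q ν (-w j) (w j) = -1 := by
    rw [ip_comm, ip_neg, N.ip_self]
  rw [h3] at h1
  exact neg_ne_zero.2 one_ne_zero h1

theorem f_zero [Finite F] (N : NatB ρ w ν m0 b) : N.f 0 = 0 := by
  have hk := N.hk
  have h01 : (1 : Fin (k + 1)) ≠ 0 := by
    intro e
    have := congrArg Fin.val e
    simp [Nat.mod_eq_of_lt (show 1 < k + 1 by omega)] at this
  have h1 := N.coord_zero (N.fr.norm 1) (N.w_ne h01) (N.w_ne_neg h01)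
  rw [N.coord_w, if_neg h01, N.ip_ne h01.symm] at h1
  exact h1.symm

theorem f_neg_of [Finite F] (N : NatB ρ w ν m0 b) {v : V} (hv : Q v = ν) (h1 : v ≠ w 0)
    (h3 : v ≠ - w 0) : N.f (- ip Q ν (w 0) v) = - N.f (ip Q ν (w 0) v) := by
  have hk := N.hk
  have h01 : (0 : Fin (k + 1)) ≠ 1 := by
    intro e
    have := congrArg Fin.val e
    simp [Nat.mod_eq_of_lt (show 1 < k + 1 by omega)] at this
  set g := N.fr.s N.hG 0 1 with hg
  have hgw : (g : V ≃ₗ[F] V) (w 0) = - w 0 := by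
    rw [N.fr.s_apply N.hG h01, if_pos (Or.inl rfl)]
  have hgg : ∀ x, (g : V ≃ₗ[F] V) ((g : V ≃ₗ[F] V) x) = x := by
    intro x
    have := (N.fr.sgn N.hG N.h2).sq 0 1
    have h4 : ((g * g : E Q) : V ≃ₗ[F] V) x = x := by rw [this]; rfl
    exact h4
  have h5 : (g : V ≃ₗ[F] V) v ≠ w 0 := by
    intro e
    apply h3
    rw [← hgg v, e, hgw]
  have h6 : (g : V ≃ₗ[F] V) v ≠ - w 0 := by
    intro e
    apply h1
    rw [← hgg v, e, map_neg, hgw, neg_neg]
  have h7 := N.coord_zero (N.Q_map g hv) h5 h6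
  have h8 : ip Q ν (w 0) ((g : V ≃ₗ[F] V) v) = - ip Q ν (w 0) v := by
    rw [← ip_map (E_le_O g.2), hgg, hgw, ip_comm, ip_neg, ip_comm]
  have h9 : ∀ y, b.coord 0 (ρ g y) = - b.coord 0 y := by
    intro y
    have h10 : (b.coord 0).comp (ρ g) = - b.coord 0 := by
      refine b.ext fun j => ?_
      rw [LinearMap.comp_apply, LinearMap.neg_apply]
      have h11 := mem_L.1 (N.b_mem j) 0 1
      rw [← hg] at h11
      rw [h11]
      by_cases hj : j = 0
      · rw [if_neg (by
          intro h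
          have := h.1 hj
          rw [hj] at this
          exact h01 this), map_neg]
      · have hc : b.coord 0 (b j) = 0 := by
          rw [Basis.coord_apply, Basis.repr_self, Finsupp.single_apply, if_neg hj]
        split
        · rw [hc, neg_zero]
        · rw [map_neg, hc]
    exact congrArg (fun φ : M →ₗ[K] K => φ y) h10
  rw [← N.mv_map N.hm0 g hv, h9, h8] at h7
  rw [← h7, N.coord_zero hv h1 h3]

/-- The basic identity for `v = u`. -/
theorem star_self [Finite F] (N : NatB ρ w ν m0 b) {u : V} (hu : Q u = ν) (hu1 : ∀ i, u ≠ w i)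
    (hu3 : ∀ i, u ≠ - w i) :
    1 = ∑ i, N.f (ip Q ν (w i) u) * N.f (ip Q ν (w i) u) := by
  obtain ⟨g, hg⟩ := N.exists_map hu
  have hgi : ∀ {x y : V}, ((g⁻¹ : E Q) : V ≃ₗ[F] V) x = y ↔ x = (g : V ≃ₗ[F] V) y := by
    intro x y
    exact LinearEquiv.symm_apply_eq (g : V ≃ₗ[F] V)
  have hip : ∀ x, ip Q ν (w 0) (((g⁻¹ : E Q) : V ≃ₗ[F] V) x) = ip Q ν u x := by
    intro x
    rw [← ip_map (E_le_O g.2) (w 0), hg]
    congr 1
    exact LinearEquiv.apply_symm_apply (g : V ≃ₗ[F] V) x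
  have key : b.coord 0 (ρ g⁻¹ (N.mv m0 u)) = 1 := by
    have : ((g⁻¹ : E Q) : V ≃ₗ[F] V) u = w 0 := hgi.2 hg.symm
    rw [N.mv_map N.hm0 _ hu, this, N.coord_w, if_pos rfl]
  rw [← key]
  conv_lhs => rw [N.sum_coord (N.mv m0 u)]
  rw [map_sum, map_sum]
  refine Finset.sum_congr rfl fun i _ => ?_
  rw [map_smul, map_smul, smul_eq_mul, N.coord_eq hu (hu1 i) (hu3 i)]
  congr 1
  rw [N.hb i, N.mv_map N.hm0 _ (N.fr.norm i), N.coord_zero (N.Q_map _ (N.fr.norm i)), hip, ip_comm]
  · intro e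
    rw [hgi, hg] at e
    exact hu1 i e.symm
  · intro e
    rw [hgi, map_neg, hg] at e
    exact hu3 i (by rw [e, neg_neg])

/-! ### Seven coordinates -/

/-- The vector with the given first seven coordinates. -/
def v7 (w : Fin (k + 1) → V) (e : Fin 7 ↪ Fin (k + 1)) (c : Fin 7 → F) : V := ∑ t, c t • w (e t)

theorem ip_v7 [Finite F] (N : NatB ρ w ν m0 b) (e : Fin 7 ↪ Fin (k + 1)) (c : Fin 7 → F) (t : Fin 7) :
    ip Q ν (w (e t)) (v7 w e c) = c t := by
  rw [v7, ip_sum, Finset.sum_eq_single t]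
  · rw [ip_smul, N.ip_self, mul_one]
  · intro j _ hj
    rw [ip_smul, N.ip_ne (fun h => hj (e.injective h).symm), mul_zero]
  · intro hi
    exact absurd (Finset.mem_univ t) hi

theorem ip_v7_of_ne [Finite F] (N : NatB ρ w ν m0 b) (e : Fin 7 ↪ Fin (k + 1)) (c : Fin 7 → F)
    {i : Fin (k + 1)} (hi : ∀ t, e t ≠ i) : ip Q ν (w i) (v7 w e c) = 0 := by
  rw [v7, ip_sum, Finset.sum_eq_zero]
  intro j _
  rw [ip_smul, N.ip_ne (fun h => hi j h.symm), mul_zero]

theorem ip_v7_v7 [Finite F] (N : NatB ρ w ν m0 b) (e : Fin 7 ↪ Fin (k + 1)) (c d : Fin 7 → F) :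
    ip Q ν (v7 w e c) (v7 w e d) = ∑ t, c t * d t := by
  conv_lhs => rw [v7.eq_1 w e d, ip_sum]
  refine Finset.sum_congr rfl fun t _ => ?_
  rw [ip_smul, ip_comm, N.ip_v7, mul_comm]

theorem Q_v7 [Finite F] (N : NatB ρ w ν m0 b) (e : Fin 7 ↪ Fin (k + 1)) {c : Fin 7 → F}
    (hc : ∑ t, c t * c t = 1) : Q (v7 w e c) = ν := by
  have h1 := N.ip_v7_v7 e c c
  rw [hc, ip, polar_self'] at h1
  have h2 := N.h2
  have hν := N.fr.ne
  field_simp at h1
  exact h1

theorem sum_v7 [Finite F] (N : NatB ρ w ν m0 b) (e : Fin 7 ↪ Fin (k + 1)) (c d : Fin 7 → F) :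
    ∑ i, N.f (ip Q ν (w i) (v7 w e c)) * N.f (ip Q ν (w i) (v7 w e d)) =
      ∑ t, N.f (c t) * N.f (d t) := by
  classical
  rw [← Finset.sum_subset (Finset.subset_univ (Finset.univ.map e))]
  · rw [Finset.sum_map]
    refine Finset.sum_congr rfl fun t _ => ?_
    rw [N.ip_v7, N.ip_v7]
  · intro i _ hi
    have hi' : ∀ t, e t ≠ i := fun t ht => hi (Finset.mem_map.2 ⟨t, Finset.mem_univ t, ht⟩)
    rw [N.ip_v7_of_ne e c hi', N.f_zero, zero_mul]

theorem v7_ne [Finite F] (N : NatB ρ w ν m0 b) (e : Fin 7 ↪ Fin (k + 1)) {c : Fin 7 → F} {s t : Fin 7}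
    (hst : s ≠ t) (hs : c s ≠ 0) (ht : c t ≠ 0) (i : Fin (k + 1)) :
    v7 w e c ≠ w i ∧ v7 w e c ≠ - w i := by
  have key : ∀ x : V, (∀ j, j ≠ i → ip Q ν (w j) x = 0) → v7 w e c ≠ x := by
    intro x hx h
    by_cases hi : e s = i
    · have h1 := hx (e t) (fun h => hst (e.injective (hi.trans h.symm)))
      rw [← h, N.ip_v7] at h1
      exact ht h1
    · have h1 := hx (e s) hi
      rw [← h, N.ip_v7] at h1
      exact hs h1
  exact ⟨key _ fun j hj => N.ip_ne hj, key _ fun j hj => by rw [ip_neg, N.ip_ne hj, neg_zero]⟩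

theorem exists_emb7 (N : NatB ρ w ν m0 b) : ∃ _ : Fin 7 ↪ Fin (k + 1), True :=
  ⟨Fin.castLEEmb (by have := N.hk; omega), trivial⟩

/-- `(1/2, 1/2, 1/2, 1/2, 0, 0, 0)` -/
def hv (F : Type*) [Field F] : Fin 7 → F := ![2⁻¹, 2⁻¹, 2⁻¹, 2⁻¹, 0, 0, 0]

theorem hv_norm (h2 : (2 : F) ≠ 0) : ∑ t, hv F t * hv F t = 1 := by
  rw [Fin.sum_univ_seven]
  simp only [hv, Matrix.cons_val_zero, Matrix.cons_val_one, Matrix.cons_val]
  field_simp
  norm_num

theorem f_half [Finite F] (N : NatB ρ w ν m0 b) : N.f (2⁻¹ : F) ≠ 0 := by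
  obtain ⟨e, -⟩ := N.exists_emb7
  have h2 := N.h2
  have hne := fun i => N.v7_ne e (c := hv F) (s := 0) (t := 1) (by decide)
    (by simp [hv, h2]) (by simp [hv, h2]) i
  have h1 := N.star_self (N.Q_v7 e (hv_norm h2)) (fun i => (hne i).1) (fun i => (hne i).2)
  rw [N.sum_v7, Fin.sum_univ_seven] at h1
  simp only [hv, Matrix.cons_val_zero, Matrix.cons_val_one, Matrix.cons_val, N.f_zero] at h1
  intro h0
  rw [h0] at h1
  simp at h1

theorem f_neg [Finite F] (N : NatB ρ w ν m0 b) (x : F) : N.f (-x) = - N.f x := by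
  obtain ⟨hyU, hy0, hyQ⟩ := (N.exists_y x).choose_spec
  set y := (N.exists_y x).choose with hy
  have hQx : Q (x • w 0 + y) = ν := by
    rw [Q_add, QuadraticMap.map_smul, polar_smul_left, N.orth_U hyU, N.fr.norm, hyQ, smul_eq_mul,
      smul_eq_mul]
    ring
  have hip : ip Q ν (w 0) (x • w 0 + y) = x := by
    rw [ip_add, ip_smul, N.ip_self, mul_one, ip, N.orth_U hyU, mul_zero, add_zero]
  have hne : ∀ c : F, x • w 0 + y ≠ c • w 0 := by
    intro c h
    have h1 : y = (c - x) • w 0 := by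
      rw [sub_smul, ← h, add_sub_cancel_left]
    have h3 := N.orth_U hyU
    rw [h1, polar_smul_right, N.fr.polar_self, smul_eq_mul] at h3
    have h4 := (mul_eq_zero.1 h3).resolve_right N.two_nu_ne
    rw [h4, zero_smul] at h1
    exact hy0 h1
  have h1 := N.f_neg_of hQx (by rw [← one_smul F (w 0)]; exact fun h => hne 1 (by
      rw [smul_smul, mul_one] at h; exact h)) (by
      rw [← neg_one_smul F (w 0)]; exact hne (-1))
  rwa [hip] at h1

theorem f_one [Finite F] (N : NatB ρ w ν m0 b) : N.f 1 = 1 := by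
  obtain ⟨e, -⟩ := N.exists_emb7
  have h2 := N.h2
  obtain ⟨x, y, hxy⟩ := Cfsg.Agent.ClassicalGeometry.Discriminant.exists_repr h2 1 1 (-1) one_ne_zero
    one_ne_zero
  set d : Fin 7 → F := ![1, 0, 0, 0, x, y, 1] with hd
  have hdn : ∑ t, d t * d t = 1 := by
    rw [Fin.sum_univ_seven]
    simp only [hd, Matrix.cons_val_zero, Matrix.cons_val_one, Matrix.cons_val]
    linear_combination hxy
  have hne := fun i => N.v7_ne e (c := hv F) (s := 0) (t := 1) (by decide)
    (by simp [hv, h2]) (by simp [hv, h2]) i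
  have hned := fun i => N.v7_ne e (c := d) (s := 0) (t := 6) (by decide)
    (by simp [hd]) (by simp [hd]) i
  have h1 := N.star (u := v7 w e (hv F)) (v := v7 w e d) (N.Q_v7 e (hv_norm h2)) (N.Q_v7 e hdn)
    (fun i => N.coord_eq (N.Q_v7 e hdn) (hned i).1 (hned i).2) (fun i => (hne i).1)
    (fun i => (hne i).2) (by
      intro h
      have h3 := congrArg (ip Q ν (w (e 1))) h
      rw [N.ip_v7, N.ip_v7] at h3
      simp only [hd, hv, Matrix.cons_val_one, Matrix.cons_val_zero] at h3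
      exact inv_ne_zero h2 h3.symm) (by
      intro h
      have h3 := congrArg (ip Q ν (w (e 1))) h
      rw [ip_neg, N.ip_v7, N.ip_v7] at h3
      simp only [hd, hv, Matrix.cons_val_one, Matrix.cons_val_zero] at h3
      exact inv_ne_zero h2 (neg_eq_zero.1 h3.symm))
  rw [N.sum_v7, N.ip_v7_v7, Fin.sum_univ_seven, Fin.sum_univ_seven] at h1
  simp only [hd, hv, Matrix.cons_val_zero, Matrix.cons_val_one, Matrix.cons_val, N.f_zero, mul_one,
    mul_zero, zero_mul, add_zero] at h1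
  have h3 : N.f (2⁻¹ : F) * (N.f 1 - 1) = 0 := by linear_combination -h1
  exact sub_eq_zero.1 ((mul_eq_zero.1 h3).resolve_left N.f_half)

/-- All the coordinates of `mv v`. -/
theorem coord_mv [Finite F] (N : NatB ρ w ν m0 b) {v : V} (hv : Q v = ν) (i : Fin (k + 1)) :
    b.coord i (N.mv m0 v) = N.f (ip Q ν (w i) v) := by
  by_cases h1 : v = w i
  · rw [h1, N.coord_w, if_pos rfl, N.ip_self, N.f_one]
  by_cases h3 : v = - w i
  · obtain ⟨c, -, -, hc, -⟩ := exists_two (n := k + 1) (by have := N.hk; omega) i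
    have hgw : (N.fr.s N.hG i c : V ≃ₗ[F] V) (w i) = - w i := by
      rw [N.fr.s_apply N.hG hc.symm, if_pos (Or.inl rfl)]
    have h4 := N.mv_map N.hm0 (N.fr.s N.hG i c) (N.fr.norm i)
    have h5 := mem_L.1 (N.b_mem i) i c
    rw [if_neg (by
      intro h
      exact hc (h.1 rfl).symm), N.hb] at h5
    rw [hgw, h5] at h4
    rw [h3, ← h4, map_neg, N.coord_w, if_pos rfl, ip_neg, N.ip_self, N.f_neg, N.f_one]
  · exact N.coord_eq hv h1 h3

/-- The basic identity, without exceptions. -/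
theorem star' [Finite F] (N : NatB ρ w ν m0 b) {u v : V} (hu : Q u = ν) (hv : Q v = ν) :
    N.f (ip Q ν u v) = ∑ i, N.f (ip Q ν (w i) u) * N.f (ip Q ν (w i) v) := by
  obtain ⟨g, hg⟩ := N.exists_map hu
  have hip : ∀ x, ip Q ν (w 0) (((g⁻¹ : E Q) : V ≃ₗ[F] V) x) = ip Q ν u x := by
    intro x
    rw [← ip_map (E_le_O g.2) (w 0), hg]
    congr 1
    exact LinearEquiv.apply_symm_apply (g : V ≃ₗ[F] V) x
  have key : b.coord 0 (ρ g⁻¹ (N.mv m0 v)) = N.f (ip Q ν u v) := by
    rw [N.mv_map N.hm0 _ hv, N.coord_mv (N.Q_map _ hv), hip]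
  rw [← key]
  conv_lhs => rw [N.sum_coord (N.mv m0 v)]
  rw [map_sum, map_sum]
  refine Finset.sum_congr rfl fun i _ => ?_
  rw [map_smul, map_smul, smul_eq_mul, N.coord_mv hv, mul_comm]
  congr 1
  rw [N.hb i, N.mv_map N.hm0 _ (N.fr.norm i), N.coord_mv (N.Q_map _ (N.fr.norm i)), hip, ip_comm]

theorem star7 [Finite F] (N : NatB ρ w ν m0 b) {c d : Fin 7 → F} (hc : ∑ t, c t * c t = 1)
    (hd : ∑ t, d t * d t = 1) : N.f (∑ t, c t * d t) = ∑ t, N.f (c t) * N.f (d t) := by
  obtain ⟨e, -⟩ := N.exists_emb7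
  have h1 := N.star' (N.Q_v7 e hc) (N.Q_v7 e hd)
  rwa [N.sum_v7, N.ip_v7_v7] at h1

theorem f_add [Finite F] (N : NatB ρ w ν m0 b) (x y : F) : N.f (x + y) = N.f x + N.f y := by
  have h2 := N.h2
  obtain ⟨p, q, hpq⟩ := Cfsg.Agent.ClassicalGeometry.Discriminant.exists_repr h2 1 1
    (1 - x * x - y * y) one_ne_zero one_ne_zero
  obtain ⟨p', q', hpq'⟩ := Cfsg.Agent.ClassicalGeometry.Discriminant.exists_repr h2 1 1
    (1 - (x + y) * (x + y)) one_ne_zero one_ne_zero
  have h1 := N.star7 (c := hv F) (d := ![x, y, 0, 0, p, q, 0]) (hv_norm h2) (by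
    rw [Fin.sum_univ_seven]
    simp only [Matrix.cons_val_zero, Matrix.cons_val_one, Matrix.cons_val]
    linear_combination hpq)
  have h3 := N.star7 (c := hv F) (d := ![x + y, 0, 0, 0, p', q', 0]) (hv_norm h2) (by
    rw [Fin.sum_univ_seven]
    simp only [Matrix.cons_val_zero, Matrix.cons_val_one, Matrix.cons_val]
    linear_combination hpq')
  rw [Fin.sum_univ_seven, Fin.sum_univ_seven] at h1 h3
  simp only [hv, Matrix.cons_val_zero, Matrix.cons_val_one, Matrix.cons_val, N.f_zero,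
    mul_zero, zero_mul, add_zero] at h1 h3
  have e : (2⁻¹ : F) * x + 2⁻¹ * y = 2⁻¹ * (x + y) := by ring
  rw [e, h3] at h1
  have h4 : N.f (2⁻¹ : F) * (N.f (x + y) - (N.f x + N.f y)) = 0 := by linear_combination h1
  exact sub_eq_zero.1 ((mul_eq_zero.1 h4).resolve_left N.f_half)

theorem f_mul [Finite F] (N : NatB ρ w ν m0 b) (x y : F) : N.f (x * y) = N.f x * N.f y := by
  have h2 := N.h2
  obtain ⟨p, q, hpq⟩ := Cfsg.Agent.ClassicalGeometry.Discriminant.exists_repr h2 1 1
    (1 - x * x) one_ne_zero one_ne_zero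
  obtain ⟨p', q', hpq'⟩ := Cfsg.Agent.ClassicalGeometry.Discriminant.exists_repr h2 1 1
    (1 - y * y) one_ne_zero one_ne_zero
  have h1 := N.star7 (c := ![x, p, q, 0, 0, 0, 0]) (d := ![y, 0, 0, p', q', 0, 0]) (by
    rw [Fin.sum_univ_seven]
    simp only [Matrix.cons_val_zero, Matrix.cons_val_one, Matrix.cons_val]
    linear_combination hpq) (by
    rw [Fin.sum_univ_seven]
    simp only [Matrix.cons_val_zero, Matrix.cons_val_one, Matrix.cons_val]
    linear_combination hpq')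
  rw [Fin.sum_univ_seven, Fin.sum_univ_seven] at h1
  simp only [Matrix.cons_val_zero, Matrix.cons_val_one, Matrix.cons_val, N.f_zero,
    mul_zero, zero_mul, add_zero] at h1
  exact h1

/-- `f` as a ring homomorphism. -/
noncomputable def fHom [Finite F] (N : NatB ρ w ν m0 b) : F →+* K where
  toFun := N.f
  map_one' := N.f_one
  map_mul' := N.f_mul
  map_zero' := N.f_zero
  map_add' := N.f_add

/-- The semilinear map `θ`. -/
noncomputable def theta [Finite F] (N : NatB ρ w ν m0 b) : V →ₛₗ[N.fHom] M where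
  toFun v := ∑ i, N.f (ip Q ν (w i) v) • b i
  map_add' x y := by
    rw [← Finset.sum_add_distrib]
    refine Finset.sum_congr rfl fun i _ => ?_
    rw [ip_add, N.f_add, add_smul]
  map_smul' c x := by
    rw [Finset.smul_sum]
    refine Finset.sum_congr rfl fun i _ => ?_
    rw [ip_smul, N.f_mul, smul_smul]
    rfl

theorem theta_apply [Finite F] (N : NatB ρ w ν m0 b) (v : V) :
    N.theta v = ∑ i, N.f (ip Q ν (w i) v) • b i := rfl

theorem theta_mv [Finite F] (N : NatB ρ w ν m0 b) {v : V} (hv : Q v = ν) : N.theta v = N.mv m0 v := by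
  rw [theta_apply, N.sum_coord (N.mv m0 v)]
  exact Finset.sum_congr rfl fun i _ => by rw [N.coord_mv hv]

theorem theta_w [Finite F] (N : NatB ρ w ν m0 b) (i : Fin (k + 1)) : N.theta (w i) = b i := by
  rw [N.theta_mv (N.fr.norm i), N.hb]

theorem theta_map [Finite F] (N : NatB ρ w ν m0 b) (g : E Q) (v : V) :
    N.theta ((g : V ≃ₗ[F] V) v) = ρ g (N.theta v) := by
  conv_lhs => rw [N.expand v]
  rw [map_sum, map_sum, N.theta_apply v, map_sum]
  refine Finset.sum_congr rfl fun i _ => ?_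
  rw [map_smul, LinearMap.map_smulₛₗ, map_smul, N.theta_mv (N.Q_map g (N.fr.norm i)),
    ← N.mv_map N.hm0 g (N.fr.norm i), ← N.hb]
  rfl

end NatB

/-- **Identification of the natural module**, full frames. -/
theorem FullNat.exists_theta [Finite F] {ρ : E Q →* Module.End K M} {k : ℕ} {w : Fin (k + 1) → V}
    {ν : F} (N : FullNat ρ w ν) :
    ∃ (f : F →+* K) (θ : V →ₛₗ[f] M) (b : Basis (Fin (k + 1)) K M), (∀ i, θ (w i) = b i) ∧
      ∀ (g : E Q) v, θ ((g : V ≃ₗ[F] V) v) = ρ g (θ v) := by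
  have h1 := N.line 0
  have := N.finM
  obtain ⟨m, hm, hm0⟩ := Submodule.exists_mem_ne_zero_of_ne_bot
    (Submodule.one_le_finrank_iff.1 h1.ge)
  obtain ⟨b, hb⟩ := N.exists_basis hm hm0
  have NB : NatB ρ w ν m b := { N with hm0 := hm, hm0' := hm0, hb := hb }
  exact ⟨NB.fHom, NB.theta, b, NB.theta_w, NB.theta_map⟩

end Cfsg.Agent.H922.Om
end

-- part: H922/OmGL
section
/-!
`P ≤ GL(ι, F)`, the image of a homomorphism `φ : E Q →* P`, `Q` a good form over a finite field of odd order.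
-/

set_option autoImplicit false

namespace Cfsg.Agent.H922.OmGL

open QuadraticMap Cfsg.Agent.LieClassical.OrthCore Cfsg.Agent.LieClassical.OrthTrans
  Cfsg.Agent.LieClassical.OrthFinite Cfsg.Agent.LieClassical.OrthSimple Cfsg.Agent.H883.Bridge
  Cfsg.Agent.H883.Root Cfsg.Agent.H883.Sub Module Cfsg.Agent.H922.Om

open Cfsg Cfsg.Geo Cfsg.Agent.H915.LD

section general

variable {ι : Type} [Fintype ι] [DecidableEq ι] {F : Type*} [Field F] {P : Subgroup (GL ι F)}
  {K V : Type*} [Field K] [AddCommGroup V] [Module K V] {Q : QuadraticForm K V}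

/-- The representation of `E Q` on `F^ι` given by a homomorphism to `P`. -/
noncomputable def rep (φ : E Q →* P) : E Q →* Module.End F (ι → F) where
  toFun g := Matrix.toLin' (((φ g : P) : GL ι F) : Matrix ι ι F)
  map_one' := by
    rw [map_one]
    exact Matrix.toLin'_one
  map_mul' a b := by
    rw [map_mul, Subgroup.coe_mul, Units.val_mul, Matrix.toLin'_mul]
    rfl

/-- No fixed vectors. -/
theorem rep_fix {φ : E Q →* P} (hφ : Function.Surjective φ) (hirr : ActsIrreducibly (matrixSet P))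
    (hι : 2 ≤ Fintype.card ι) {x : ι → F} (hx : ∀ g, rep φ g x = x) : x = 0 := by
  by_contra h0
  have h1 := hirr (F ∙ x) (by
    rintro _ ⟨g, hg, rfl⟩
    rw [Submodule.map_span_le]
    rintro y rfl
    obtain ⟨g', hg'⟩ := hφ ⟨g, hg⟩
    have h3 := hx g'
    rw [rep, MonoidHom.coe_mk, OneHom.coe_mk, hg'] at h3
    show Matrix.toLin' (g : Matrix ι ι F) y ∈ _
    rw [h3]
    exact Submodule.mem_span_singleton_self y)
  rcases h1 with h1 | h1
  · exact h0 (Submodule.span_singleton_eq_bot.1 h1)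
  · have h3 := finrank_span_singleton (K := F) h0
    rw [h1, finrank_top, Module.finrank_fintype_fun_eq_card] at h3
    omega

theorem rep_nontrivial {φ : E Q →* P} (hφ : Function.Surjective φ)
    (hirr : ActsIrreducibly (matrixSet P)) (hι : 2 ≤ Fintype.card ι) : ∃ g, rep φ g ≠ 1 := by
  by_contra hcon
  push Not at hcon
  have hne : Nonempty ι := Fintype.card_pos_iff.1 (by omega)
  have h1 : ∀ x : ι → F, x = 0 := fun x => rep_fix hφ hirr hι fun g => by
    rw [hcon]
    rfl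
  have h3 := h1 fun _ => 1
  obtain ⟨i⟩ := hne
  exact one_ne_zero (congrFun h3 i)

/-- **Dimension.** -/
theorem card_eq [Finite K] {φ : E Q →* P} (hφ : Function.Surjective φ)
    (hirr : ActsIrreducibly (matrixSet P)) (hι : 2 ≤ Fintype.card ι) (hι' : Fintype.card ι ≤ 12)
    (h2F : (2 : F) ≠ 0) (h2 : (2 : K) ≠ 0) (hQ : Nondeg Q) (hV : 7 ≤ finrank K V) :
    Fintype.card ι = finrank K V := by
  have h1 := finrank_eq_finrank (ρ := rep φ) (good_of_finite hQ (by omega)) h2 h2F hV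
    (by rwa [Module.finrank_fintype_fun_eq_card]) (rep_nontrivial hφ hirr hι)
    fun x hx => rep_fix hφ hirr hι hx
  rwa [Module.finrank_fintype_fun_eq_card] at h1

/-- Full frames in odd dimension. -/
theorem exists_fullNat [Finite K] {φ : E Q →* P} (hφ : Function.Surjective φ)
    (hirr : ActsIrreducibly (matrixSet P)) (hι : 2 ≤ Fintype.card ι) (hι' : Fintype.card ι ≤ 12)
    (h2F : (2 : F) ≠ 0) (h2 : (2 : K) ≠ 0) (hQ : Nondeg Q) (hV : 7 ≤ finrank K V)
    (hodd : Odd (finrank K V)) :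
    ∃ (k : ℕ) (w : Fin (k + 1) → V) (ν : K), FullNat (rep φ) w ν := by
  have hG : Good Q := good_of_finite hQ (by omega)
  have hfd : FiniteDimensional K V := Module.finite_of_finrank_pos (by omega)
  obtain ⟨k, hk⟩ : ∃ k, finrank K V = k + 1 := ⟨finrank K V - 1, by omega⟩
  rw [hk] at hodd
  obtain ⟨-, ν, -, w, -, h, -⟩ := exists_frames (Q := Q) h2 hQ (k := 0) (l := k + 1) hodd (by omega)
  have hdim := card_eq hφ hirr hι hι' h2F h2 hQ hV
  have hM : finrank F (ι → F) = k + 1 := by rw [Module.finrank_fintype_fun_eq_card, hdim, hk]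
  have hD : Dec (rep φ) (h.s hG) := h.dec hG h2 h2F (by omega) (by omega) (Or.inr (by omega))
  exact ⟨k, w, ν, hG, h2, h2F, h, by omega, hk, hM, hD, fun a =>
    h.finrank_L_eq_one hG h2 h2F (by omega) hD (rep_nontrivial hφ hirr hι) (by omega) a⟩

/-- **The field**: if `P` is the natural group over `K` then `F` is `f(K)`. -/
theorem realisable [Finite K] {φ : E Q →* P} (hφ : Function.Surjective φ) {k : ℕ}
    {w : Fin (k + 1) → V} {ν : K} (N : FullNat (rep φ) w ν) {f : K →+* F}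
    {θ : V →ₛₗ[f] (ι → F)} {b : Basis (Fin (k + 1)) F (ι → F)} (hb : ∀ i, θ (w i) = b i)
    (hθ : ∀ (g : E Q) v, θ ((g : V ≃ₗ[K] V) v) = rep φ g (θ v)) :
    RealisableOver f.fieldRange (matrixSet P) := by
  classical
  have hcard : Fintype.card (Fin (k + 1)) = Fintype.card ι := by
    rw [Fintype.card_fin, ← Module.finrank_fintype_fun_eq_card (R := F) (η := ι), N.hM]
  let e : Fin (k + 1) ≃ ι := Fintype.equivOfCardEq hcard
  let b' : Basis ι F (ι → F) := b.reindex e
  have hinv : b'.toMatrix (Pi.basisFun F ι) * (Pi.basisFun F ι).toMatrix b' = 1 :=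
    Basis.toMatrix_mul_toMatrix_flip _ _
  have hinv' : (Pi.basisFun F ι).toMatrix b' * b'.toMatrix (Pi.basisFun F ι) = 1 :=
    Basis.toMatrix_mul_toMatrix_flip _ _
  refine ⟨⟨b'.toMatrix (Pi.basisFun F ι), (Pi.basisFun F ι).toMatrix b', hinv, hinv'⟩, ?_⟩
  rintro _ ⟨g, hg, rfl⟩ i j
  obtain ⟨g', hg'⟩ := hφ ⟨g, hg⟩
  show (b'.toMatrix (Pi.basisFun F ι) * (g : Matrix ι ι F) * (Pi.basisFun F ι).toMatrix b') i j ∈ _
  have h1 : (g : Matrix ι ι F) = LinearMap.toMatrix (Pi.basisFun F ι) (Pi.basisFun F ι)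
      (rep φ g') := by
    rw [rep, MonoidHom.coe_mk, OneHom.coe_mk, hg', LinearMap.toMatrix_eq_toMatrix',
      LinearMap.toMatrix'_toLin']
  rw [h1, basis_toMatrix_mul_linearMap_toMatrix_mul_basis_toMatrix, LinearMap.toMatrix_apply]
  obtain ⟨i, rfl⟩ := e.surjective i
  obtain ⟨j, rfl⟩ := e.surjective j
  rw [Basis.reindex_apply, Equiv.symm_apply_apply, Basis.repr_reindex_apply, Equiv.symm_apply_apply,
    ← hb, ← hθ]
  conv => 
    arg 2
    rw [N.expand ((g' : V ≃ₗ[K] V) (w j)), map_sum]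
  simp only [LinearMap.map_smulₛₗ, hb]
  rw [b.repr_sum_self]
  exact ⟨_, rfl⟩

end general

end Cfsg.Agent.H922.OmGL
end

-- part: H922/OmKill
section
/-!
**The rows `PΩ_k(K)`, `K` of odd order, in `Ω_{2m+1}(F)`, `3 ≤ m ≤ 5`.**  A residual core `P` of a proper subgroup
of `Ω_{2m+1}(F)` is never `PΩ_k(K)`, `k ≥ 7`.
-/

set_option autoImplicit false

namespace Cfsg.Agent.H922.OmGL

open QuadraticMap Cfsg.Agent.LieClassical.OrthCore Cfsg.Agent.LieClassical.OrthTrans
  Cfsg.Agent.LieClassical.OrthFinite Cfsg.Agent.LieClassical.OrthSimple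
  Cfsg.Agent.LieClassical.OrthForms Cfsg.Agent.H883.Bridge
  Cfsg.Agent.H883.Root Cfsg.Agent.H883.Sub Module Cfsg.Agent.H922.Om

open Cfsg Cfsg.Geo Cfsg.Agent.H915.LD

section cover

variable {ι : Type} [Fintype ι] [DecidableEq ι] {F : Type*} [Field F] {P : Subgroup (GL ι F)}
  {κ : Type} [Fintype κ] [DecidableEq κ] {K : Type*} [Field K] {Q : QuadraticForm K (κ → K)}

/-- The projection of `E Q` to `POmega`. -/
noncomputable def prO (hG : Good Q) : E Q →* Cfsg.POmega K ⇑Q :=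
  (QuotientGroup.mk' _).comp ((omegaEquiv Q).symm.toMonoidHom.comp
    (MulEquiv.subgroupCongr hG.commutator_eq_E).symm.toMonoidHom)

theorem prO_surjective (hG : Good Q) : Function.Surjective (prO hG) :=
  (QuotientGroup.mk'_surjective _).comp ((omegaEquiv Q).symm.surjective.comp
    (MulEquiv.subgroupCongr hG.commutator_eq_E).symm.surjective)

/-- The homomorphism of `E Q` onto `P`, if `P` contains no scalars. -/
noncomputable def cov (hG : Good Q) (hZ : (scalars ι F).subgroupOf P = ⊥)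
    (e : Soc P ≃* Cfsg.POmega K ⇑Q) : E Q →* P :=
  ((QuotientGroup.quotientMulEquivOfEq hZ).trans QuotientGroup.quotientBot).toMonoidHom.comp
    (e.symm.toMonoidHom.comp (prO hG))

theorem cov_surjective (hG : Good Q) (hZ : (scalars ι F).subgroupOf P = ⊥)
    (e : Soc P ≃* Cfsg.POmega K ⇑Q) : Function.Surjective (cov hG hZ e) :=
  ((QuotientGroup.quotientMulEquivOfEq hZ).trans QuotientGroup.quotientBot).surjective.comp
    (e.symm.surjective.comp (prO_surjective hG))

/-- **Dimension** for `P` without scalars. -/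
theorem card_eq_of_core [Finite K] (hC : Core P) (hZ : (scalars ι F).subgroupOf P = ⊥)
    (h2F : (2 : F) ≠ 0) (h2 : (2 : K) ≠ 0) (hQ : Nondeg Q) (hκ : 7 ≤ Fintype.card κ)
    (hι : Fintype.card ι ≤ 12) (e : Soc P ≃* Cfsg.POmega K ⇑Q) :
    Fintype.card ι = Fintype.card κ := by
  have hG : Good Q := good_of_card hQ (by omega)
  have h := card_eq (cov_surjective hG hZ e) hC.absIrred.1 hC.two_le hι h2F h2 hQ
    (by rwa [Module.finrank_fintype_fun_eq_card])
  rwa [Module.finrank_fintype_fun_eq_card] at h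

/-- **The field** for `P` without scalars, odd dimension. -/
theorem card_field_eq [Finite K] [Finite F] (hC : Core P) (hZ : (scalars ι F).subgroupOf P = ⊥)
    (h2F : (2 : F) ≠ 0) (h2 : (2 : K) ≠ 0) (hQ : Nondeg Q) (hκ : 7 ≤ Fintype.card κ)
    (hodd : Odd (Fintype.card κ)) (hι : Fintype.card ι ≤ 12) (e : Soc P ≃* Cfsg.POmega K ⇑Q) :
    Nat.card K = Nat.card F := by
  have hG : Good Q := good_of_card hQ (by omega)
  have hsurj := cov_surjective hG hZ e
  obtain ⟨k, w, ν, N⟩ := exists_fullNat hsurj hC.absIrred.1 hC.two_le hι h2F h2 hQ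
    (by rwa [Module.finrank_fintype_fun_eq_card]) (by rwa [Module.finrank_fintype_fun_eq_card])
  obtain ⟨f, θ, b, hb, hθ⟩ := N.exists_theta
  have h1 := realisable hsurj N hb hθ
  have h3 : f.fieldRange = ⊤ := by
    by_contra hne
    exact hC.no_subfield _ hne h1
  have hbij : Function.Bijective f := ⟨f.injective, fun x => by
    have : x ∈ f.fieldRange := by rw [h3]; trivial
    exact this⟩
  exact Nat.card_congr (Equiv.ofBijective f hbij)

end cover

theorem finite_two_ne {K : Type*} [Field K] [Fintype K] (h : Odd (Fintype.card K)) : (2 : K) ≠ 0 :=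
  Cfsg.Agent.H922.two_ne_zero_of_odd_card h

/-- `|Ω_{2m+1}(F)| = |PΩ_{2m+1}(F)|` -/
theorem card_omegaGL_odd {F : Type*} [Field F] [Fintype F] (h2 : (2 : F) ≠ 0) {m : ℕ} (hm : 3 ≤ m) :
    Nat.card (omegaGL (quadFormOdd m F)) = Nat.card (Cfsg.POmega F (quadFormOdd m F)) := by
  have hQ := Cfsg.Agent.S0292.oddForm_nondegenerate (F := F) h2 m
  have hcard : Fintype.card (Unit ⊕ (Fin m ⊕ Fin m)) = 2 * m + 1 := by
    simp only [_root_.Fintype.card_sum, _root_.Fintype.card_unique, _root_.Fintype.card_fin]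
    ring
  have hc := Cfsg.Agent.LieClassical.OrthCenter.card_center_omega_of_odd h2 hQ (by omega)
    (by rw [hcard]; exact ⟨m, rfl⟩) (Cfsg.Agent.S0292.exists_singular (by omega))
  rw [Cfsg.Agent.LieClassical.QuadForms.coe_oddForm] at hc
  have h1 := Subgroup.card_eq_card_quotient_mul_card_subgroup
    (Subgroup.center (Cfsg.Omega F (quadFormOdd m F)))
  rw [hc, mul_one] at h1
  rw [← h1, omegaGL]
  exact (Nat.card_congr ((Cfsg.Omega F (quadFormOdd m F)).equivMapOfInjective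
    (isometryGroup F (quadFormOdd m F)).subtype
    (isometryGroup F (quadFormOdd m F)).subtype_injective).toEquiv).symm

/-- **The rows `PΩ_k(K)`, `|K|` odd, `k ≥ 7`, in `Ω_{2m+1}(F)`, `m ≤ 5`.** -/
theorem not_pomega {F : Type*} [Field F] [Fintype F] (hF : Odd (Fintype.card F)) {m : ℕ} (hm : m ≤ 5)
    {H P : Subgroup (GL (Unit ⊕ (Fin m ⊕ Fin m)) F)} (hlt : H < omegaGL (quadFormOdd m F))
    (hPH : P ≤ H) (hC : Core P)
    (hT : IsPOmegaOdd (Soc P) ∨
      (∃ (K : Type) (_ : Field K) (_ : Fintype K) (k : ℕ), 4 ≤ k ∧ Odd (Fintype.card K) ∧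
        Nonempty (Soc P ≃* Cfsg.POmega K (quadFormPlus k K))) ∨
      ∃ (K : Type) (_ : Field K) (_ : Fintype K) (k : ℕ) (a b : K), 4 ≤ k ∧ Odd (Fintype.card K) ∧
        (∀ z₁ z₂ : K, z₁ ^ 2 + a * z₁ * z₂ + b * z₂ ^ 2 = 0 → z₁ = 0 ∧ z₂ = 0) ∧
        Nonempty (Soc P ≃* Cfsg.POmega K (quadFormMinus (k - 1) K a b))) : False := by
  have h2F := finite_two_ne hF
  have hcard : Fintype.card (Unit ⊕ (Fin m ⊕ Fin m)) = 2 * m + 1 := by
    simp only [_root_.Fintype.card_sum, _root_.Fintype.card_unique, _root_.Fintype.card_fin]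
    ring
  have hQF : IsNondegenerateQuadraticForm (quadFormOdd m F) := by
    rw [← coe_oddForm]
    exact isNondegenerateQuadraticForm (nondeg_oddForm m F h2F)
  have hZ : (scalars (Unit ⊕ (Fin m ⊕ Fin m)) F).subgroupOf P = ⊥ := by
    rw [eq_bot_iff]
    intro x hx
    rw [Subgroup.mem_bot]
    apply Subtype.ext
    exact Cfsg.Agent.H922.scalars_inf_omegaGL (quadFormOdd m F) hQF (by rw [hcard]; exact ⟨m, rfl⟩)
      (hlt.le (hPH x.2)) hx
  rcases hT with ⟨K, iF, iT, k, hk, hodd, ⟨e⟩⟩ | ⟨K, iF, iT, k, hk, hodd, ⟨e⟩⟩ |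
    ⟨K, iF, iT, k, a, b, hk, hodd, hab, ⟨e⟩⟩
  · have h2 := finite_two_ne hodd
    have hcard' : Fintype.card (Unit ⊕ (Fin k ⊕ Fin k)) = 2 * k + 1 := by
      simp only [_root_.Fintype.card_sum, _root_.Fintype.card_unique, _root_.Fintype.card_fin]
      ring
    have e' : Soc P ≃* Cfsg.POmega K ⇑(oddForm k K) := by
      rw [coe_oddForm]
      exact e
    have h1 := card_eq_of_core hC hZ h2F h2 (nondeg_oddForm k K h2) (by omega) (by omega) e'
    have hmk : k = m := by omega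
    subst hmk
    have h3 := card_field_eq hC hZ h2F h2 (nondeg_oddForm k K h2) (by omega)
      (by rw [hcard']; exact ⟨k, rfl⟩) (by omega) e'
    rw [Nat.card_eq_fintype_card, Nat.card_eq_fintype_card] at h3
    have h4 := Cfsg.Agent.S0292.result (F := K) (q := Fintype.card F) h3 hF k hk
    have h5 := Cfsg.Agent.S0292.result (F := F) (q := Fintype.card F) rfl hF k hk
    have h6 : Nat.card P = Nat.card (omegaGL (quadFormOdd k F)) := by
      have h7 : Nat.card P = Nat.card (Soc P) :=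
        (Nat.card_congr ((QuotientGroup.quotientMulEquivOfEq hZ).trans
          QuotientGroup.quotientBot).toEquiv).symm
      rw [card_omegaGL_odd h2F hk, h7, Nat.card_congr e.toEquiv]
      omega
    have h8 : P < omegaGL (quadFormOdd k F) := lt_of_le_of_lt hPH hlt
    have h9 : Finite (omegaGL (quadFormOdd k F)) := inferInstance
    exact absurd (Subgroup.eq_of_le_of_card_ge h8.le h6.ge) h8.ne
  · have h2 := finite_two_ne hodd
    have hcard' : Fintype.card (Fin k ⊕ Fin k) = 2 * k := by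
      simp only [_root_.Fintype.card_sum, _root_.Fintype.card_fin]
      ring
    have e' : Soc P ≃* Cfsg.POmega K ⇑(plusForm k K) := by
      rw [coe_plusForm]
      exact e
    have h1 := card_eq_of_core hC hZ h2F h2 (nondeg_plusForm k K) (by omega) (by omega) e'
    omega
  · have h2 := finite_two_ne hodd
    have hcard' : Fintype.card ((Fin (k - 1) ⊕ Fin (k - 1)) ⊕ Fin 2) = 2 * k := by
      simp only [_root_.Fintype.card_sum, _root_.Fintype.card_fin]
      omega
    have e' : Soc P ≃* Cfsg.POmega K ⇑(minusForm (k - 1) K a b) := by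
      rw [coe_minusForm]
      exact e
    have h1 := card_eq_of_core hC hZ h2F h2 (nondeg_minusForm (k - 1) K a b hab) (by omega) (by omega) e'
    omega

end Cfsg.Agent.H922.OmGL
end

private theorem dce_43c38639b8ff : _root_.True := by
  try have : _root_.True := by simp only [_root_.Cfsg.Agent.H922.Om.Frame.zz.eq_1]
  try have : _root_.True := by simp only [_root_.Cfsg.Agent.H922.Om.FullNat.ip.eq_1]
  try have : _root_.True := by simp only [_root_.Cfsg.Agent.H922.Om.NatB.hv.eq_1]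
  try have : _root_.True := by simp only [_root_.Cfsg.Agent.H922.Om.NatB.v7.eq_1]
  try have : _root_.True := by simp only [_root_.Cfsg.Agent.H922.OmGL.rep.eq_1]
  try have : _root_.True := by simp only [_root_.Cfsg.Agent.H922.Om.FullNat.mv.eq_1]
  try have : _root_.True := by simp only [_root_.Cfsg.Agent.H922.Om.Frame.s.congr_simp]
  try have : _root_.True := by simp only [_root_.Cfsg.Agent.H922.Om.Frame.zz.congr_simp]
  try have : _root_.True := by simp only [_root_.Cfsg.Agent.H922.Om.NatB.f.congr_simp]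
  exact _root_.True.intro
end
end
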