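import Mathlib
import Cfsg.Prelude.Def_GeometricClasses
import Cfsg.Agent.H922.OddBase
import Cfsg.Agent.H922.OddThree
import Cfsg.Agent.H922.OddTensor
import Cfsg.Agent.H922.OddTensorTwo
import Cfsg.Agent.H925.OrthNot
set_option linter.all false

/-!
`Ω(Q)` in odd dimension is not contained in the stabiliser of a tensor decomposition.
-/

set_option autoImplicit false
set_option linter.unusedSectionVars false
set_option linter.style.haveILetI false

namespace Cfsg.Agent.H922

open Cfsg Cfsg.Geo Module Cfsg.Agent.H919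
open scoped MatrixGroups Matrix Kronecker

variable {F : Type*} [Field F]

/-- Two vectors with a nonzero minor. -/
def Minor {k : ℕ} (u u' : Fin k → F) : Prop := ∃ i j, u i * u' j - u j * u' i ≠ 0

theorem minor_of_linearIndependent {k : ℕ} {u u' : Fin k → F}
    (h : LinearIndependent F ![u, u']) : Minor u u' := by
  by_contra hcon
  unfold Minor at hcon
  push Not at hcon
  rw [LinearIndependent.pair_iff] at h
  have hu : u ≠ 0 := by
    rintro rfl
    have := (h 1 0 (by simp)).1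
    exact one_ne_zero this
  obtain ⟨i, hi⟩ := Function.ne_iff.1 hu
  have h1 := h (u' i) (-(u i)) (by
    funext j
    simp only [Pi.add_apply, Pi.smul_apply, smul_eq_mul, Pi.zero_apply]
    linear_combination -(hcon i j))
  apply hi
  simpa using h1.2

/-- Vectors used for the non-pure singular vector. -/
theorem exists_vectors [Finite F] (h2 : (2 : F) ≠ 0) {k : ℕ} (hk : Odd k) (hk3 : 3 ≤ k)
    {f₁ : (Fin k → F) → (Fin k → F) → F} (hf₁ : IsSymmetricForm f₁) :
    ∃ u u' v v' w : Fin k → F, f₁ u u = 0 ∧ f₁ u' u' = 0 ∧ f₁ v v' = 0 ∧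
      Minor u u' ∧ Minor v v' ∧ w ≠ 0 := by
  obtain ⟨d, b, hd, hb⟩ := exists_basis_const h2 (toBilin hf₁.bilinear)
    ⟨fun x y => hf₁.symm x y⟩ (toBilin_nondegenerate hf₁.bilinear hf₁.nondegenerate) (n := k)
    hk (by rw [finrank_fintype_fun_eq_card, Fintype.card_fin])
  obtain ⟨x, y, hxy⟩ := Cfsg.Agent.ClassicalGeometry.Discriminant.exists_repr h2 (1 : F) 1 (-1)
    one_ne_zero one_ne_zero
  let i0 : Fin k := ⟨0, by omega⟩
  let i1 : Fin k := ⟨1, by omega⟩
  let i2 : Fin k := ⟨2, by omega⟩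
  have h01 : i0 ≠ i1 := by simp [i0, i1, Fin.ext_iff]
  have h02 : i0 ≠ i2 := by simp [i0, i2, Fin.ext_iff]
  have h12 : i1 ≠ i2 := by simp [i1, i2, Fin.ext_iff]
  have hB : ∀ α β γ α' β' γ' : F,
      f₁ (α • b i0 + β • b i1 + γ • b i2) (α' • b i0 + β' • b i1 + γ' • b i2) =
        d * (α * α' + β * β' + γ * γ') := by
    intro α β γ α' β' γ'
    have hbb : ∀ i j, f₁ (b i) (b j) = if i = j then d else 0 := hb
    simp only [hf₁.bilinear.add_left, hf₁.bilinear.add_right, hf₁.bilinear.smul_left,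
      hf₁.bilinear.smul_right, hbb, if_true, if_neg h01, if_neg h02, if_neg h12,
      if_neg h01.symm, if_neg h02.symm, if_neg h12.symm]
    ring
  refine ⟨x • b i0 + y • b i1 + (1 : F) • b i2, x • b i0 + y • b i1 + (-1 : F) • b i2,
    b i0, b i1, b i0, ?_, ?_, ?_, ?_, ?_, b.ne_zero i0⟩
  · rw [hB]; linear_combination d * hxy
  · rw [hB]; linear_combination d * hxy
  · have := hb i0 i1
    rwa [if_neg h01] at this
  · apply minor_of_linearIndependent
    rw [LinearIndependent.pair_iff]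
    intro s t hst
    have e1 := congrArg (fun z => f₁ z (x • b i0 + y • b i1 + (-1 : F) • b i2)) hst
    have e2 := congrArg (fun z => f₁ z (x • b i0 + y • b i1 + (1 : F) • b i2)) hst
    have hz : ∀ z, f₁ 0 z = 0 := by
      intro z
      have := hf₁.bilinear.smul_left 0 0 z
      rwa [zero_smul, zero_mul] at this
    simp only [hf₁.bilinear.add_left _ _ (x • b i0 + y • b i1 + (-1 : F) • b i2),
      hf₁.bilinear.add_left _ _ (x • b i0 + y • b i1 + (1 : F) • b i2),
      hf₁.bilinear.smul_left, hz] at e1 e2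
    have k1 := hB x y 1 x y (-1)
    have k2 := hB x y (-1) x y (-1)
    have k3 := hB x y 1 x y 1
    have k4 := hB x y (-1) x y 1
    have e1' : s * (-2 * d) = 0 := by
      have : f₁ (s • (x • b i0 + y • b i1 + (1 : F) • b i2) +
        t • (x • b i0 + y • b i1 + (-1 : F) • b i2)) (x • b i0 + y • b i1 + (-1 : F) • b i2) = 0 := by
        rw [hst, hz]
      rw [hf₁.bilinear.add_left, hf₁.bilinear.smul_left s, hf₁.bilinear.smul_left t, k1, k2] at this
      linear_combination this - (s * d + t * d) * hxy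
    have e2' : t * (-2 * d) = 0 := by
      have : f₁ (s • (x • b i0 + y • b i1 + (1 : F) • b i2) +
        t • (x • b i0 + y • b i1 + (-1 : F) • b i2)) (x • b i0 + y • b i1 + (1 : F) • b i2) = 0 := by
        rw [hst, hz]
      rw [hf₁.bilinear.add_left, hf₁.bilinear.smul_left s, hf₁.bilinear.smul_left t, k3, k4] at this
      linear_combination this - (s * d + t * d) * hxy
    have h2d : -2 * d ≠ 0 := mul_ne_zero (neg_ne_zero.2 h2) hd
    exact ⟨(mul_eq_zero.1 e1').resolve_right h2d, (mul_eq_zero.1 e2').resolve_right h2d⟩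
  · apply minor_of_linearIndependent
    have hc : (![b i0, b i1] : Fin 2 → (Fin k → F)) = b ∘ ![i0, i1] := by
      funext i
      fin_cases i <;> rfl
    rw [hc]
    apply b.linearIndependent.comp
    intro i j hij
    fin_cases i <;> fin_cases j
    · rfl
    · exact absurd hij h01
    · exact absurd hij.symm h01
    · rfl

/-- A rank two array is not of rank one. -/
theorem not_rank_one {k l : ℕ} {u u' : Fin k → F} {v v' : Fin l → F} (hu : Minor u u')
    (hv : Minor v v') {T : Fin k → Fin l → F} {δ : F} (hδ : δ ≠ 0)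
    (hT : ∀ i j, T i j = (u i * v j + u' i * v' j) * δ)
    (hrank : ∀ i j i' j', T i j * T i' j' = T i j' * T i' j) : False := by
  obtain ⟨i, i', hi⟩ := hu
  obtain ⟨j, j', hj⟩ := hv
  have h := hrank i j i' j'
  rw [hT, hT, hT, hT] at h
  have h1 : (u i * u' i' - u i' * u' i) * (v j * v' j' - v j' * v' j) * (δ * δ) = 0 := by
    linear_combination h
  rcases mul_eq_zero.1 h1 with h2 | h2
  · rcases mul_eq_zero.1 h2 with h3 | h3
    · exact hi h3
    · exact hj h3
  · exact hδ ((mul_self_eq_zero).1 h2)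

variable {ι : Type} [Fintype ι] [DecidableEq ι]

theorem comp_ne_zero {κ : Type} [Fintype κ] [DecidableEq κ] (e : ι ≃ κ) (P : GL ι F)
    {x : κ → F} (hx : x ≠ 0) : (P : Matrix ι ι F) *ᵥ (x ∘ e) ≠ 0 := by
  intro h
  apply hx
  have h1 : (x ∘ e : ι → F) = 0 := by
    have := congrArg (fun w => ((P⁻¹ : GL ι F) : Matrix ι ι F) *ᵥ w) h
    simpa [Matrix.mulVec_mulVec] using this
  funext a
  have := congrFun h1 (e.symm a)
  simpa using this

theorem comp_injective {κ : Type} [Fintype κ] [DecidableEq κ] (e : ι ≃ κ) (P : GL ι F)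
    {x y : κ → F} (h : (P : Matrix ι ι F) *ᵥ (x ∘ e) = (P : Matrix ι ι F) *ᵥ (y ∘ e)) : x = y := by
  by_contra hxy
  apply comp_ne_zero e P (sub_ne_zero.2 hxy)
  have : ((x - y) ∘ e : ι → F) = x ∘ e - y ∘ e := rfl
  rw [this, Matrix.mulVec_sub, h, sub_self]

/-- `(N1)` -/
theorem omegaGL_not_le_tensorProduct [Finite F] (h2 : (2 : F) ≠ 0) {Q : (ι → F) → F}
    (hQ : IsNondegenerateQuadraticForm Q) (hn : 5 ≤ Fintype.card ι) {n₁ n₂ : ℕ} (ho₁ : Odd n₁)
    (ho₂ : Odd n₂) (h3₁ : 3 ≤ n₁) (h3₂ : 3 ≤ n₂) {f₁ : (Fin n₁ → F) → (Fin n₁ → F) → F}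
    {f₂ : (Fin n₂ → F) → (Fin n₂ → F) → F} (hf₁ : IsSymmetricForm f₁) (hf₂ : IsSymmetricForm f₂)
    {e : ι ≃ Fin n₁ × Fin n₂} {P : GL ι F}
    (hP : IsTensorFormStructure id (QuadraticMap.polar Q) f₁ f₂ e P) :
    ¬ omegaGL Q ≤ tensorProductSubgroup n₁ n₂ e P := by
  intro hle
  obtain ⟨c, hc, hcf⟩ := hP
  obtain ⟨u, u', -, -, -, hu, hu', -, hmu, -, -⟩ := exists_vectors h2 ho₁ h3₁ hf₁
  obtain ⟨-, -, v, v', -, -, -, hv, -, hmv, -⟩ := exists_vectors h2 ho₂ h3₂ hf₂
  let x : Fin n₁ × Fin n₂ → F := fun p => u p.1 * v p.2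
  let x' : Fin n₁ × Fin n₂ → F := fun p => u' p.1 * v' p.2
  have hform : ∀ (a a' : Fin n₁ → F) (b b' : Fin n₂ → F),
      QuadraticMap.polar Q ((P : Matrix ι ι F) *ᵥ ((fun p : Fin n₁ × Fin n₂ => a p.1 * b p.2) ∘ e))
        ((P : Matrix ι ι F) *ᵥ ((fun p : Fin n₁ × Fin n₂ => a' p.1 * b' p.2) ∘ e)) =
        c * (f₁ a a' * f₂ b b') := by
    intro a a' b b'
    rw [hcf, formOfGram_id, eq_gram hf₁.bilinear a a', eq_gram hf₂.bilinear b b']
    congr 1
    simp only [dotProduct, Matrix.mulVec, Fintype.sum_prod_type, Matrix.kroneckerMap_apply,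
      Finset.sum_mul_sum]
    refine Finset.sum_congr rfl fun i _ => Finset.sum_congr rfl fun j _ => ?_
    rw [show a i * (∑ i', gramMatrix f₁ i i' * a' i') * (b j * ∑ j', gramMatrix f₂ j j' * b' j') =
      a i * b j * ((∑ i', gramMatrix f₁ i i' * a' i') * ∑ j', gramMatrix f₂ j j' * b' j') by ring]
    congr 1
    rw [Finset.sum_mul_sum]
    refine Finset.sum_congr rfl fun i' _ => Finset.sum_congr rfl fun j' _ => ?_
    ring
  have hbf := hQ.polar_bilinear
  set z₀ : ι → F := (P : Matrix ι ι F) *ᵥ (x ∘ e) with hz₀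
  set z₁ : ι → F := (P : Matrix ι ι F) *ᵥ ((x + x') ∘ e) with hz₁
  have hz₁' : z₁ = (P : Matrix ι ι F) *ᵥ (x ∘ e) + (P : Matrix ι ι F) *ᵥ (x' ∘ e) := by
    rw [hz₁, ← Matrix.mulVec_add]; rfl
  have hxne : x ≠ 0 := by
    obtain ⟨i, i', hi⟩ := hmu
    obtain ⟨j, j', hj⟩ := hmv
    intro h0
    have hx0 : ∀ i j, u i * v j = 0 := fun i j => congrFun h0 (i, j)
    by_cases hui : u i = 0
    · have hui' : u i' ≠ 0 := by
        intro h; apply hi; rw [hui, h]; ring
      have hv0 : ∀ j, v j = 0 := fun j => (mul_eq_zero.1 (hx0 i' j)).resolve_left hui'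
      apply hj; rw [hv0, hv0]; ring
    · have hv0 : ∀ j, v j = 0 := fun j => (mul_eq_zero.1 (hx0 i j)).resolve_left hui
      apply hj; rw [hv0, hv0]; ring
  have hxxne : x + x' ≠ 0 := by
    intro h0
    refine not_rank_one hmu hmv (T := fun _ _ => 0) (δ := 1) one_ne_zero (fun i j => ?_)
      (fun _ _ _ _ => rfl)
    have := congrFun h0 (i, j)
    rw [mul_one]
    exact this.symm
  have hQ0 : Q z₀ = 0 := by
    have h1 := hform u u v v
    rw [hu, zero_mul, mul_zero] at h1
    rw [two_mul_Q hQ.smul] at h1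
    exact (mul_eq_zero.1 h1).resolve_left h2
  have hQ1 : Q z₁ = 0 := by
    have h1 : QuadraticMap.polar Q z₁ z₁ = 0 := by
      rw [hz₁', hbf.add_left, hbf.add_right, hbf.add_right]
      have e1 := hform u u v v
      have e2 := hform u u' v v'
      have e3 := hform u' u v' v
      have e4 := hform u' u' v' v'
      rw [hu, zero_mul, mul_zero] at e1
      rw [hv, mul_zero, mul_zero] at e2
      rw [hf₂.symm v' v, hv, mul_zero, mul_zero] at e3
      rw [hu', zero_mul, mul_zero] at e4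
      rw [e1, e2, e3, e4]; ring
    rw [two_mul_Q hQ.smul] at h1
    exact (mul_eq_zero.1 h1).resolve_left h2
  obtain ⟨g, hg, hgz⟩ := Cfsg.Agent.H925.exists_trans hQ hn (comp_ne_zero e P hxne)
    (comp_ne_zero e P hxxne) (hQ0.trans hQ1.symm)
  obtain ⟨a, b, rfl⟩ := (mem_tensorProductSubgroup_iff e P g).1 (hle hg)
  have h5 : ((P * glReindex e.symm (kronGL a b) * P⁻¹ : GL ι F) : Matrix ι ι F) *ᵥ
      ((P : Matrix ι ι F) *ᵥ (x ∘ e)) =
      (P : Matrix ι ι F) *ᵥ ((((kronGL a b : GL (Fin n₁ × Fin n₂) F) : Matrix _ _ F) *ᵥ x) ∘ e) := by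
    rw [Units.val_mul, Units.val_mul, ← Matrix.mulVec_mulVec, ← Matrix.mulVec_mulVec,
      Matrix.mulVec_mulVec _ _ (P : Matrix ι ι F), Units.inv_mul, Matrix.one_mulVec,
      glReindex_mulVec]
  rw [h5] at hgz
  have h6 := comp_injective e P hgz
  have h7 : ((kronGL a b : GL (Fin n₁ × Fin n₂) F) :
      Matrix (Fin n₁ × Fin n₂) (Fin n₁ × Fin n₂) F) *ᵥ x =
      fun p : Fin n₁ × Fin n₂ => ((a : Matrix (Fin n₁) (Fin n₁) F) *ᵥ u) p.1 *
        ((b : Matrix (Fin n₂) (Fin n₂) F) *ᵥ v) p.2 := by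
    funext p
    simp only [kronGL_val, Matrix.mulVec, dotProduct, Fintype.sum_prod_type,
      Matrix.kroneckerMap_apply, Finset.sum_mul_sum, x]
    refine Finset.sum_congr rfl fun i' _ => Finset.sum_congr rfl fun j' _ => ?_
    ring
  rw [h7] at h6
  refine not_rank_one hmu hmv (T := fun i j => (x + x') (i, j)) (δ := 1) one_ne_zero
    (fun i j => ?_) (fun i j i' j' => ?_)
  · rw [mul_one]; rfl
  · simp only [← h6]; ring

/-- `(N2)` -/
theorem omegaGL_not_le_tensorWreath [Finite F] (h2 : (2 : F) ≠ 0) {Q : (ι → F) → F}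
    (hQ : IsNondegenerateQuadraticForm Q) (hn : 5 ≤ Fintype.card ι) {k t : ℕ} (ho : Odd k)
    (h3 : 3 ≤ k) (ht : 2 ≤ t) {f₁ : (Fin k → F) → (Fin k → F) → F}
    (hf₁ : IsSymmetricForm f₁) {e : ι ≃ (Fin t → Fin k)} {P : GL ι F}
    (hP : IsTensorPowerFormStructure id (QuadraticMap.polar Q) f₁ e P) :
    ¬ omegaGL Q ≤ tensorWreathSubgroup k t e P := by
  classical
  intro hle
  obtain ⟨c, hc, hcf⟩ := hP
  have hcf' := tensorPower_eq hcf rfl
  obtain ⟨u, u', v, v', w, hu, hu', hv, hmu, hmv, hw⟩ := exists_vectors h2 ho h3 hf₁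
  let i0 : Fin t := ⟨0, by omega⟩
  let i1 : Fin t := ⟨1, by omega⟩
  have h01 : i0 ≠ i1 := by simp [i0, i1, Fin.ext_iff]
  let W : Fin t → (Fin k → F) := Function.update (Function.update (fun _ => w) i0 u) i1 v
  let W' : Fin t → (Fin k → F) := Function.update (Function.update (fun _ => w) i0 u') i1 v'
  have hW0 : W i0 = u := by
    simp only [W]; rw [Function.update_of_ne h01, Function.update_self]
  have hW1 : W i1 = v := by simp only [W]; rw [Function.update_self]
  have hW0' : W' i0 = u' := by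
    simp only [W']; rw [Function.update_of_ne h01, Function.update_self]
  have hW1' : W' i1 = v' := by simp only [W']; rw [Function.update_self]
  obtain ⟨c₀, hc₀⟩ := Function.ne_iff.1 hw
  -- evaluation
  have heval : ∀ (a b : Fin k → F) (i j : Fin k),
      pureVec (Function.update (Function.update (fun _ => w) i0 a) i1 b)
        (Function.update (Function.update (fun _ => c₀) i0 i) i1 j) =
      (a i * b j) * ∏ l ∈ (Finset.univ.erase i0).erase i1, w c₀ := by
    intro a b i j
    unfold pureVec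
    rw [← Finset.mul_prod_erase _ _ (Finset.mem_univ i0),
      ← Finset.mul_prod_erase _ _ (Finset.mem_erase.2 ⟨h01.symm, Finset.mem_univ i1⟩)]
    rw [Function.update_of_ne h01, Function.update_self, Function.update_of_ne h01,
      Function.update_self, Function.update_self, Function.update_self, mul_assoc]
    congr 2
    refine Finset.prod_congr rfl fun l hl => ?_
    rw [Finset.mem_erase, Finset.mem_erase] at hl
    rw [Function.update_of_ne hl.1, Function.update_of_ne hl.2.1, Function.update_of_ne hl.1,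
      Function.update_of_ne hl.2.1]
  set δ := ∏ l ∈ (Finset.univ.erase i0).erase i1, w c₀ with hδ
  have hδ0 : δ ≠ 0 := Finset.prod_ne_zero_iff.2 fun _ _ => hc₀
  have hbf := hQ.polar_bilinear
  have hform : ∀ X Y : Fin t → (Fin k → F),
      QuadraticMap.polar Q ((P : Matrix ι ι F) *ᵥ (pureVec X ∘ e))
        ((P : Matrix ι ι F) *ᵥ (pureVec Y ∘ e)) = c * ∏ i, f₁ (X i) (Y i) := by
    intro X Y
    rw [hcf', pureMat_mulVec, dot_pureVec]
    congr 1
    refine Finset.prod_congr rfl fun i _ => ?_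
    rw [← eq_gram hf₁.bilinear]
  set z₀ : ι → F := (P : Matrix ι ι F) *ᵥ (pureVec W ∘ e) with hz₀
  set z₁ : ι → F := (P : Matrix ι ι F) *ᵥ ((pureVec W + pureVec W') ∘ e) with hz₁
  have hz₁' : z₁ = (P : Matrix ι ι F) *ᵥ (pureVec W ∘ e) + (P : Matrix ι ι F) *ᵥ (pureVec W' ∘ e) := by
    rw [hz₁, ← Matrix.mulVec_add]; rfl
  have hxxne : pureVec W + pureVec W' ≠ 0 := by
    intro h0
    refine not_rank_one hmu hmv (T := fun _ _ => 0) hδ0 (fun i j => ?_)
      (fun _ _ _ _ => rfl)
    have := congrFun h0 (Function.update (Function.update (fun _ => c₀) i0 i) i1 j)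
    rw [Pi.add_apply, heval, heval, ← add_mul] at this
    exact this.symm
  have hxne : pureVec W ≠ 0 := by
    intro h0
    have hx0 : ∀ i j, u i * v j = 0 := by
      intro i j
      have := congrFun h0 (Function.update (Function.update (fun _ => c₀) i0 i) i1 j)
      rw [heval] at this
      exact (mul_eq_zero.1 this).resolve_right hδ0
    obtain ⟨i, i', hi⟩ := hmu
    obtain ⟨j, j', hj⟩ := hmv
    by_cases hui : u i = 0
    · have hui' : u i' ≠ 0 := by
        intro h; apply hi; rw [hui, h]; ring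
      have hv0 : ∀ j, v j = 0 := fun j => (mul_eq_zero.1 (hx0 i' j)).resolve_left hui'
      apply hj; rw [hv0, hv0]; ring
    · have hv0 : ∀ j, v j = 0 := fun j => (mul_eq_zero.1 (hx0 i j)).resolve_left hui
      apply hj; rw [hv0, hv0]; ring
  have hprod : ∀ (X Y : Fin t → (Fin k → F)) (i : Fin t), f₁ (X i) (Y i) = 0 →
      c * ∏ i, f₁ (X i) (Y i) = 0 := by
    intro X Y i h
    rw [Finset.prod_eq_zero (Finset.mem_univ i) h, mul_zero]
  have hQ0 : Q z₀ = 0 := by
    have h1 := hform W W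
    rw [hprod W W i0 (by rw [hW0]; exact hu)] at h1
    rw [two_mul_Q hQ.smul] at h1
    exact (mul_eq_zero.1 h1).resolve_left h2
  have hQ1 : Q z₁ = 0 := by
    have h1 : QuadraticMap.polar Q z₁ z₁ = 0 := by
      rw [hz₁', hbf.add_left, hbf.add_right, hbf.add_right, hform, hform, hform, hform,
        hprod W W i0 (by rw [hW0]; exact hu), hprod W W' i1 (by rw [hW1, hW1']; exact hv),
        hprod W' W i1 (by rw [hW1, hW1', hf₁.symm]; exact hv),
        hprod W' W' i0 (by rw [hW0']; exact hu')]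
      ring
    rw [two_mul_Q hQ.smul] at h1
    exact (mul_eq_zero.1 h1).resolve_left h2
  obtain ⟨g, hg, hgz⟩ := Cfsg.Agent.H925.exists_trans hQ hn (comp_ne_zero e P hxne)
    (comp_ne_zero e P hxxne) (hQ0.trans hQ1.symm)
  obtain ⟨g', hg', rfl⟩ := (mem_tensorWreathSubgroup_iff e P g).1 (hle hg)
  obtain ⟨σ, x, rfl⟩ := exists_normal_form hg'
  rw [frameGL_mulVec, Units.val_mul, ← Matrix.mulVec_mulVec, facPerm_mulVec, pureGL_val,
    pureMat_mulVec] at hgz
  have h6 := comp_injective e P hgz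
  set Z := fun i => (x i : Matrix (Fin k) (Fin k) F) *ᵥ W (σ⁻¹ i) with hZ
  have hT : ∀ i j, (pureVec W + pureVec W')
      (Function.update (Function.update (fun _ => c₀) i0 i) i1 j) = Z i0 i * Z i1 j *
        ∏ l ∈ (Finset.univ.erase i0).erase i1, Z l c₀ := by
    intro i j
    rw [← h6]
    unfold pureVec
    rw [← Finset.mul_prod_erase _ _ (Finset.mem_univ i0),
      ← Finset.mul_prod_erase _ _ (Finset.mem_erase.2 ⟨h01.symm, Finset.mem_univ i1⟩)]
    rw [Function.update_of_ne h01, Function.update_self, Function.update_self, mul_assoc]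
    congr 2
    refine Finset.prod_congr rfl fun l hl => ?_
    rw [Finset.mem_erase, Finset.mem_erase] at hl
    rw [Function.update_of_ne hl.1, Function.update_of_ne hl.2.1]
  refine not_rank_one hmu hmv
    (T := fun i j => (pureVec W + pureVec W')
      (Function.update (Function.update (fun _ => c₀) i0 i) i1 j)) hδ0
    (fun i j => ?_) (fun i j i' j' => ?_)
  · simp only [Pi.add_apply]
    rw [heval, heval, ← add_mul]
  · simp only [hT]; ring

end Cfsg.Agent.H922
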